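import Cfsg.Agent.Lib.Lie.Chev.F4Mult.TailData
import Cfsg.Agent.Lib.Lie.Chev.SteinbergUnivF4
import Cfsg.Agent.Lib.Lie.Chev.ModularBasic

/-! The root elements of F4 over two elements and their commutator formulas by letters. -/

set_option autoImplicit false
set_option maxRecDepth 100000

namespace Cfsg.Agent.Lie.Chev.F4Mult

open Cfsg.Lie

theorem wtab_spec : ((List.range 48).all fun a => (List.range 48).all fun b => Nat.beq a b || Nat.beq (a + b) 47 ||
    (wordOf wtab a b == ((certFullF4.T.commTerms b a).filter fun x => x.2.1 % 2 != 0).map Prod.fst)) = true := by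
  decide +kernel

theorem wtab_lt : ((List.range 48).all fun a => (List.range 48).all fun b =>
    (wordOf wtab a b).all fun k => Nat.blt k 48) = true := by decide +kernel

theorem gauge_spec : ((List.range 48).all fun k =>
    let x := gaugePairs.getD k (0, 0)
    Nat.blt x.1 x.2 && Nat.blt x.2 48 && !(Nat.beq (x.1 + x.2) 47) && (wordOf wtab x.1 x.2 == [k])) = true := by
  decide +kernel

theorem gauge_length : gaugePairs.length = 48 := rfl

theorem gauge_at {k : ℕ} (hk : k < 48) : (gaugePairs.getD k (0, 0)).1 < (gaugePairs.getD k (0, 0)).2 ∧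
    (gaugePairs.getD k (0, 0)).2 < 48 ∧ (gaugePairs.getD k (0, 0)).1 + (gaugePairs.getD k (0, 0)).2 ≠ 47 ∧
    wordOf wtab (gaugePairs.getD k (0, 0)).1 (gaugePairs.getD k (0, 0)).2 = [k] := by
  have h := List.all_eq_true.1 gauge_spec k (List.mem_range.2 hk)
  simp only [Bool.and_eq_true, Nat.blt_eq, Bool.not_eq_true', beq_iff_eq] at h
  exact ⟨h.1.1.1, h.1.1.2, Nat.ne_of_beq_eq_false h.1.2, h.2⟩

theorem nroots_F4 : chevF4.nroots = 48 := by rw [certFullF4.nroots_eq]; decide +kernel

theorem neg_F4 : ((List.range 48).all fun a => Nat.beq (certFullF4.T.neg a) (47 - a)) = true := by decide +kernel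

theorem neg_eq {a : ℕ} (ha : a < 48) : chevF4.neg a = 47 - a := by
  rw [certFullF4.neg_eq (nroots_F4 ▸ ha)]
  exact Nat.eq_of_beq_eq_true (List.all_eq_true.1 neg_F4 a (List.mem_range.2 ha))

theorem wordOf_lt {a b : ℕ} (ha : a < 48) (hb : b < 48) : ∀ k ∈ wordOf wtab a b, k < 48 := fun k hk =>
  Nat.le_of_ble_eq_true (List.all_eq_true.1
    (List.all_eq_true.1 (List.all_eq_true.1 wtab_lt a (List.mem_range.2 ha)) b (List.mem_range.2 hb)) k hk)

variable {F : Type*} [Field F] [Fintype F] (hF : Fintype.card F = 2)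
include hF

theorem eq_zero_or_one (t : F) : t = 0 ∨ t = 1 := by
  classical
  by_contra h
  push Not at h
  have h2 := Finset.card_le_univ ({0, 1, t} : Finset F)
  rw [hF, Finset.card_eq_three.2 ⟨0, 1, t, zero_ne_one, h.1.symm, h.2.symm, rfl⟩] at h2
  omega

theorem one_add_one : (1 : F) + 1 = 0 :=
  (eq_zero_or_one hF (1 + 1)).resolve_right fun h => one_ne_zero (add_eq_left.1 h)

theorem neg_one : (-1 : F) = 1 := neg_eq_of_add_eq_zero_left (one_add_one hF)

theorem cast_eq (C : ℤ) : (C : F) = if C % 2 = 0 then 0 else 1 := by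
  have h2 : ((2 : ℤ) : F) = 0 := by rw [show (2 : ℤ) = 1 + 1 from rfl, Int.cast_add, Int.cast_one, one_add_one hF]
  conv_lhs => rw [← Int.emod_add_mul_ediv C 2, Int.cast_add, Int.cast_mul, h2, zero_mul, add_zero]
  rcases Int.emod_two_eq_zero_or_one C with h | h <;> simp [h]

/-- A list of terms evaluated at ones is the word of the odd ones. -/
theorem prod_terms {Γ : Type*} [Monoid Γ] (y : ℕ → F → Γ) (hy : ∀ k, k < 48 → y k 0 = 1) :
    ∀ L : List (ℕ × ℤ × ℕ × ℕ), (∀ x ∈ L, x.1 < 48) →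
      (L.map fun x => y x.1 ((x.2.1 : F) * (-1) ^ x.2.2.1 * (1 : F) ^ x.2.2.2)).prod =
        evw (fun k => y k 1) ((L.filter fun x => x.2.1 % 2 != 0).map Prod.fst)
  | [], _ => by simp [evw]
  | x :: L, h => by
    have ih := prod_terms y hy L fun x hx => h x (List.mem_cons_of_mem _ hx)
    rw [List.map_cons, List.prod_cons, ih, neg_one hF, one_pow, one_pow, mul_one, mul_one, cast_eq hF]
    by_cases hx : x.2.1 % 2 = 0
    · rw [if_pos hx, hy _ (h x (by simp)), one_mul, List.filter_cons_of_neg (by simp [hx])]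
    · rw [if_neg hx, List.filter_cons_of_pos (by simp [hx]), List.map_cons, evw_cons]

theorem wordOf_eq {a b : ℕ} (ha : a < 48) (hb : b < 48) (hne : a ≠ b) (hop : a + b ≠ 47) {Γ : Type*} [Monoid Γ]
    (y : ℕ → F → Γ) (hy : ∀ k, k < 48 → y k 0 = 1) :
    ((certFullF4.T.commTerms b a).map fun x => y x.1 ((x.2.1 : F) * (-1) ^ x.2.2.1 * (1 : F) ^ x.2.2.2)).prod =
      evw (fun k => y k 1) (wordOf wtab a b) := by
  have h := List.all_eq_true.1 (List.all_eq_true.1 wtab_spec a (List.mem_range.2 ha)) b (List.mem_range.2 hb)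
  simp only [Bool.or_eq_true, Nat.beq_eq, beq_iff_eq] at h
  rw [prod_terms hF y hy _ fun x hx => nroots_F4 ▸
      (certFullF4.mem_commTerms (nroots_F4 ▸ hb) (nroots_F4 ▸ ha) hx).1,
    (h.resolve_left (by omega) : wordOf wtab a b = _)]

omit [Fintype F] hF in
/-- A root element as a member of the group. -/
def xF (r : ℕ) (t : F) : ↥(chevF4.group F) := ⟨certFullF4.xg r t, certFullF4.xg_mem_all r t⟩

omit [Fintype F] hF in
theorem xF_zero (r : ℕ) (hr : r < 48) : xF (F := F) r 0 = 1 := by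
  have h := certFullF4.xg_add (F := F) (r := r)
  refine Subtype.ext ?_
  show certFullF4.xg r (0 : F) = 1
  have h0 := h 0 0
  rw [add_zero] at h0
  exact mul_eq_left.1 (by first | exact h0.symm | exact h0)

theorem xF_sq {a : ℕ} (ha : a < 48) : xF (F := F) a 1 * xF a 1 = 1 := by
  have h0 := congrArg Subtype.val (xF_zero (F := F) a ha)
  refine Subtype.ext ?_
  show certFullF4.xg a (1 : F) * certFullF4.xg a 1 = 1
  rw [← certFullF4.xg_add, one_add_one hF]
  exact h0

theorem xF_comm {a b : ℕ} (ha : a < 48) (hb : b < 48) (hne : a ≠ b) (hop : a + b ≠ 47) :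
    xF (F := F) a 1 * xF b 1 = xF b 1 * xF a 1 * evw (fun k => xF (F := F) k 1) (wordOf wtab a b) := by
  rw [← wordOf_eq hF ha hb hne hop (fun k t => xF (F := F) k t) fun k hk => xF_zero k hk]
  refine Subtype.ext ?_
  have h := certFullF4.xg_comm (r := b) (s := a) (nroots_F4 ▸ hb) (nroots_F4 ▸ ha) hne
    (by rw [neg_eq hb]; omega) (1 : F) 1
  rw [Subgroup.coe_mul, Subgroup.coe_mul, Subgroup.coe_mul, SubmonoidClass.coe_list_prod, List.map_map]
  exact h

end Cfsg.Agent.Lie.Chev.F4Mult
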