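import Cfsg.Agent.Lib.Lie.Chev.F4Mult.TailData
import Cfsg.Agent.Lib.Lie.Chev.F4Mult.Lifts
import Cfsg.Agent.S1078

/-! Involutions with the commutator formulas of F4 over two elements are images of that group. -/

set_option autoImplicit false
set_option maxRecDepth 100000

universe u

namespace Cfsg.Agent.Lie.Chev.F4Mult

open Cfsg.Lie
open scoped commutatorElement

theorem rev_spec : ((List.range 48).all fun a => (List.range 48).all fun b => Nat.beq a b || Nat.beq (a + b) 47 ||
    ((wordOf wtab a b).reverse == wordOf wtab b a) ||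
    (match wordOf wtab a b with
      | [k, l] => (wordOf wtab b a == [k, l]) && Nat.blt k 48 && Nat.blt l 48 && !(Nat.beq k l) &&
          !(Nat.beq (k + l) 47) && (wordOf wtab (min k l) (max k l) == [])
      | _ => false)) = true := by decide +kernel

/-- The formulas in the other order follow from exact ones. -/
theorem comm_any {Γ : Type*} [Group Γ] (y : ℕ → Γ) (hsq : ∀ a < 48, y a * y a = 1)
    (hcm : ∀ a b, a < b → b < 48 → a + b ≠ 47 → y a * y b = y b * y a * evw y (wordOf wtab a b))
    {a b : ℕ} (ha : a < 48) (hb : b < 48) (hne : a ≠ b) (hop : a + b ≠ 47) :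
    y a * y b = y b * y a * evw y (wordOf wtab a b) := by
  rcases Nat.lt_or_ge a b with h | h
  · exact hcm a b h hb hop
  have hlt : b < a := by omega
  have h1 := hcm b a hlt ha (by omega)
  have hw := wordOf_lt hb ha
  have hinv : ∀ w : List ℕ, (∀ k ∈ w, k < 48) → (evw y w)⁻¹ = evw y w.reverse := fun w => by
    induction w with
    | nil => simp [evw]
    | cons k w ih =>
      intro hk
      rw [evw_cons, mul_inv_rev, ih fun j hj => hk j (List.mem_cons_of_mem _ hj),
        inv_eq_of_mul_eq_one_left (hsq k (hk k (by simp))), List.reverse_cons, evw_append, evw_cons]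
      simp [evw]
  have e : y a * y b = y b * y a * evw y (wordOf wtab b a).reverse := by
    rw [← hinv _ hw, h1, mul_inv_cancel_right]
  rw [e]
  congr 1
  have hc := List.all_eq_true.1 (List.all_eq_true.1 rev_spec b (List.mem_range.2 hb)) a (List.mem_range.2 ha)
  simp only [Bool.or_eq_true, Nat.beq_eq, beq_iff_eq] at hc
  rcases hc with ((hc | hc) | hc) | hc
  · exact absurd hc (by omega)
  · exact absurd hc (by omega)
  · rw [hc]
  · split at hc
    case h_2 => simp at hc
    case h_1 k l e' =>
      simp only [Bool.and_eq_true, beq_iff_eq, Nat.blt_eq, Bool.not_eq_true'] at hc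
      obtain ⟨⟨⟨⟨⟨hr, hk⟩, hl⟩, hkl⟩, hop'⟩, hmm⟩ := hc
      rw [hr, e']
      have hkl' := Nat.ne_of_beq_eq_false hkl
      have hop'' := Nat.ne_of_beq_eq_false hop'
      have hcomm := hcm (min k l) (max k l) (by omega) (by omega) (by omega)
      rw [hmm] at hcomm
      simp only [evw, List.map_nil, List.prod_nil, mul_one] at hcomm
      simp only [evw, List.reverse_cons, List.reverse_nil, List.nil_append, List.cons_append, List.map_cons,
        List.map_nil, List.prod_cons, List.prod_nil, mul_one]
      rcases Nat.lt_or_ge k l with h' | h'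
      · rw [min_eq_left h'.le, max_eq_right h'.le] at hcomm; exact hcomm.symm
      · rw [min_eq_right h', max_eq_left h'] at hcomm; exact hcomm

variable {F : Type u} [Field F] [Fintype F] (hF : Fintype.card F = 2)
include hF

omit [Fintype F] hF in
theorem cover_toGroup (r : ℕ) (hr : r < 48) (t : F) :
    ((certFullF4.stCoverData F).toGroup ((certFullF4.stCoverData F).X r t)) = xF r t :=
  Subtype.ext ((certFullF4.stCoverData F).θX r (nroots_F4 ▸ hr) t)

theorem toGroup_bijective : Function.Bijective (certFullF4.stCoverData F).toGroup := by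
  have hN : checkNbr certFullF4.T = true := by decide +kernel
  set A := certFullF4.stCoverData F
  haveI := A.finite_of_finite hN
  have hcard : Nat.card (Subgroup.center (chevF4.SteinbergCover F)) = 1 := by
    rw [certFullF4.card_center_cover F hN, S1078.result (K := F) chevF4 (by simp), Subgroup.card_bot]
  refine ⟨(MonoidHom.ker_eq_bot_iff _).1 ?_, A.toGroup_surjective⟩
  rw [A.ker_toGroup, A.ker_eq_center hN]
  exact Subgroup.card_eq_one.1 hcard

omit [Fintype F] hF in
/-- A subgroup holding the root elements is everything. -/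
theorem group_induction (S : Subgroup ↥(chevF4.group F)) (hS : ∀ r < 48, ∀ t : F, xF r t ∈ S)
    (g : ↥(chevF4.group F)) : g ∈ S := by
  set A := certFullF4.stCoverData F
  obtain ⟨x, rfl⟩ := A.toGroup_surjective g
  have hx : x ∈ Subgroup.closure {g | ∃ r < chevF4.nroots, ∃ t : F, g = A.X r t} := A.gen ▸ Subgroup.mem_top x
  induction hx using Subgroup.closure_induction with
  | mem y hy =>
    obtain ⟨r, hr, t, rfl⟩ := hy
    rw [nroots_F4] at hr
    rw [cover_toGroup r hr]
    exact hS r hr t
  | one => rw [map_one]; exact one_mem _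
  | mul a b _ _ ha hb => rw [map_mul]; exact mul_mem ha hb
  | inv a _ ha => rw [map_inv]; exact inv_mem ha

omit [Fintype F] hF in
/-- Homomorphisms agree when they agree on the root elements. -/
theorem group_ext {Q : Type*} [Group Q] (f g : ↥(chevF4.group F) →* Q)
    (h : ∀ r < 48, ∀ t : F, f (xF r t) = g (xF r t)) : f = g :=
  MonoidHom.ext fun x => group_induction (f.eqLocus g) h x

theorem group_perfect : commutator ↥(chevF4.group F) = ⊤ := by
  have hk : ∀ k < 48, ∀ t : F, xF k t ∈ commutator ↥(chevF4.group F) := by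
    intro k hk t
    rcases eq_zero_or_one hF t with rfl | rfl
    · rw [xF_zero k hk]; exact one_mem _
    obtain ⟨h1, h2, h3, h4⟩ := gauge_at hk
    set a := (gaugePairs.getD k (0, 0)).1
    set b := (gaugePairs.getD k (0, 0)).2
    have h := xF_comm hF (a := a) (b := b) (by omega) h2 (by omega) h3
    rw [h4] at h
    simp only [evw, List.map_cons, List.map_nil, List.prod_cons, List.prod_nil, mul_one] at h
    have e : xF (F := F) k 1 = ⁅(xF (F := F) a 1)⁻¹, (xF (F := F) b 1)⁻¹⁆ := by
      rw [commutatorElement_def, inv_inv, inv_inv, mul_assoc, h]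
      group
    rw [e]
    exact Subgroup.commutator_mem_commutator (Subgroup.mem_top _) (Subgroup.mem_top _)
  exact eq_top_iff.2 fun g _ => group_induction _ hk g

/-- Involutions with the commutator formulas are an image of the group. -/
theorem exists_hom {Q : Type*} [Group Q] (y : ℕ → Q) (qsq : ∀ a < 48, y a * y a = 1)
    (qcm : ∀ a b, a < b → b < 48 → a + b ≠ 47 → y a * y b = y b * y a * evw y (wordOf wtab a b)) :
    ∃ τ : ↥(chevF4.group F) →* Q, ∀ r < 48, τ (xF r 1) = y r := by
  classical
  have hn : chevF4.nroots = 48 := nroots_F4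
  let Y : ℕ → F → Q := fun r t => if t = 0 then 1 else y r
  let f : Fin chevF4.nroots × F → Q := fun x => Y x.1 x.2
  have hX : ∀ r < chevF4.nroots, ∀ t : F, FreeGroup.lift f (chevF4.stX r t) = Y r t := fun r hr t => by
    rw [ChevalleyDatum.stX, dif_pos hr, FreeGroup.lift_apply_of]
  have hrel : ∀ g ∈ chevF4.steinbergRelsAB F, FreeGroup.lift f g = 1 := by
    rintro g (⟨r, t, u, hr, rfl⟩ | ⟨r, s, t, u, hr, hs, h1, h2, rfl⟩)
    · simp only [map_mul, map_inv, hX r hr, Y]
      rcases eq_zero_or_one hF t with rfl | rfl <;> rcases eq_zero_or_one hF u with rfl | rfl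
      · simp
      · simp
      · simp
      · simp [one_add_one hF, qsq r (hn ▸ hr)]
    · have hr' : r < 48 := hn ▸ hr
      have hs' : s < 48 := hn ▸ hs
      have hop : s + r ≠ 47 := by rw [neg_eq hr'] at h2; omega
      have hw : FreeGroup.lift f (chevF4.stWord (chevF4.commWord F r s t u)) =
          ((certFullF4.T.commTerms r s).map fun x =>
            Y x.1 ((x.2.1 : F) * (-t) ^ x.2.2.1 * u ^ x.2.2.2)).prod := by
        rw [ChevalleyDatum.stWord, ChevalleyDatum.commWord, certFullF4.commTerms_eq hr hs, map_list_prod,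
          List.map_map, List.map_map]
        exact congrArg List.prod (List.map_congr_left fun x hx =>
          hX _ (certFullF4.mem_commTerms hr hs hx).1 _)
      simp only [map_mul, map_inv, hX r hr, hX s hs, hw]
      rcases eq_zero_or_one hF t with rfl | rfl
      · rw [show ((certFullF4.T.commTerms r s).map fun x =>
            Y x.1 ((x.2.1 : F) * (-0) ^ x.2.2.1 * u ^ x.2.2.2)).prod = 1 from List.prod_eq_one fun v hv => by
          obtain ⟨x, hx, rfl⟩ := List.mem_map.1 hv
          have := (certFullF4.mem_commTerms hr hs hx).2.1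
          simp [Y, neg_zero, zero_pow (show x.2.2.1 ≠ 0 by omega)]]
        rcases eq_zero_or_one hF u with rfl | rfl <;> simp [Y]
      rcases eq_zero_or_one hF u with rfl | rfl
      · rw [show ((certFullF4.T.commTerms r s).map fun x =>
            Y x.1 ((x.2.1 : F) * (-1) ^ x.2.2.1 * (0 : F) ^ x.2.2.2)).prod = 1 from List.prod_eq_one fun v hv => by
          obtain ⟨x, hx, rfl⟩ := List.mem_map.1 hv
          have := (certFullF4.mem_commTerms hr hs hx).2.2.1
          simp [Y, zero_pow (show x.2.2.2 ≠ 0 by omega)]]
        simp [Y]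
      rw [wordOf_eq hF hs' hr' (by omega) hop Y fun k _ => if_pos rfl]
      have e := comm_any y qsq qcm hs' hr' (by omega) hop
      simp only [Y, one_ne_zero, if_false]
      rw [mul_inv_eq_one, mul_assoc ((y s)⁻¹ * (y r)⁻¹), e]
      group
  let τ : chevF4.SteinbergCover F →* Q := PresentedGroup.toGroup hrel
  let e := MulEquiv.ofBijective (certFullF4.stCoverData F).toGroup (toGroup_bijective hF)
  refine ⟨τ.comp e.symm.toMonoidHom, fun r hr => ?_⟩
  have h1 : e.symm (xF r 1) = (certFullF4.stCoverData F).X r 1 := by
    apply e.injective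
    rw [MulEquiv.apply_symm_apply]
    exact (cover_toGroup r hr 1).symm
  rw [MonoidHom.comp_apply, MulEquiv.coe_toMonoidHom, h1]
  show PresentedGroup.toGroup hrel (PresentedGroup.mk _ (chevF4.stX r 1)) = y r
  exact (hX r (hn ▸ hr) 1).trans (if_neg one_ne_zero)

end Cfsg.Agent.Lie.Chev.F4Mult
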