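import Cfsg.Agent.Lib.Lie.Chev.F4Mult.TailChecks
import Cfsg.Agent.Lib.Lie.Chev.F4Mult.Hom
import Cfsg.Agent.Lib.Spor.Cos.Fi24Mult.Central

/-! The kernel of a stem extension of F4 over two elements has order at most two. -/

set_option autoImplicit false
set_option maxRecDepth 100000

universe u

namespace Cfsg.Agent.Lie.Chev.F4Mult

open Cfsg.Lie
open scoped commutatorElement

variable {F : Type u} [Field F] [Fintype F] (hF : Fintype.card F = 2)
include hF

/-- Lifts of the root elements with commutator formulas exact up to one central involution. -/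
theorem exists_lifts {Γ : Type*} [Group Γ] (σ : Γ →* ↥(chevF4.group F)) (hs : Function.Surjective σ)
    (hc : σ.ker ≤ Subgroup.center Γ) :
    ∃ (y : ℕ → Γ) (z : Γ), z ∈ σ.ker ∧ z * z = 1 ∧ (∀ a < 48, σ (y a) = xF a 1) ∧
      (∀ a < 48, y a * y a ∈ Subgroup.zpowers z) ∧
      ∀ a b, a < b → b < 48 → a + b ≠ 47 →
        (y b * y a * evw y (wordOf wtab a b))⁻¹ * (y a * y b) ∈ Subgroup.zpowers z := by
  choose y0 hy0 using fun a : ℕ => hs (xF a 1)
  obtain ⟨P, hP⟩ : ∃ P : ℕ → ℕ × ℕ, ∀ k, P k = gaugePairs.getD k (0, 0) := ⟨_, fun _ => rfl⟩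
  obtain ⟨y, ydef⟩ : ∃ y : ℕ → Γ, ∀ k, y k = (y0 (P k).2 * y0 (P k).1)⁻¹ * (y0 (P k).1 * y0 (P k).2) :=
    ⟨_, fun _ => rfl⟩
  have hy : ∀ a < 48, σ (y a) = xF a 1 := by
    intro k hk
    obtain ⟨h1, h2, h3, h4⟩ := gauge_at hk
    rw [← hP] at h1 h2 h3 h4
    have h := xF_comm hF (a := (P k).1) (b := (P k).2) (by omega) h2 (by omega) h3
    rw [h4] at h
    simp only [evw, List.map_cons, List.map_nil, List.prod_cons, List.prod_nil, mul_one] at h
    simp only [ydef, map_mul, map_inv, hy0]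
    rw [h]
    group
  have hev : ∀ w : List ℕ, (∀ k ∈ w, k < 48) → σ (evw y w) = evw (fun k => xF (F := F) k 1) w := fun w hw => by
    rw [evw, evw, map_list_prod, List.map_map]
    exact congrArg List.prod (List.map_congr_left fun k hk => hy k (hw k hk))
  let T : ℕ → ℕ → Γ := fun a b => if a = b then y a * y a else (y b * y a * evw y (wordOf wtab a b))⁻¹ * (y a * y b)
  have hT : ∀ a b, a ≤ b → b < 48 → a + b ≠ 47 → T a b ∈ σ.ker := by
    intro a b hab hb hop
    simp only [T]
    split_ifs with h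
    · rw [MonoidHom.mem_ker, map_mul, hy a (by omega), xF_sq hF (by omega)]
    · rw [MonoidHom.mem_ker, map_mul, map_inv, map_mul, map_mul, map_mul, hy a (by omega), hy b hb,
        hev _ (wordOf_lt (by omega) hb), xF_comm hF (by omega) hb h hop, inv_mul_cancel]
  classical
  let t : ℕ → Additive σ.ker := fun v =>
    if h : v / 48 ≤ v % 48 ∧ v / 48 + v % 48 ≠ 47 then
      Additive.ofMul ⟨T (v / 48) (v % 48), hT _ _ h.1 (Nat.mod_lt _ (by norm_num)) h.2⟩ else 0
  have ht : ∀ a b, a ≤ b → b < 48 → a + b ≠ 47 → ((Additive.toMul (t (var a b)) : σ.ker) : Γ) = T a b := by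
    intro a b hab hb hop
    have h1 : var a b / 48 = a := by simp only [var]; omega
    have h2 : var a b % 48 = b := by simp only [var]; omega
    simp only [t, h1, h2, dif_pos (And.intro hab hop)]
    rfl
  let _ : CommGroup σ.ker := { (inferInstance : Group σ.ker) with
    mul_comm := fun p q => Subtype.ext (Subgroup.mem_center_iff.1 (hc q.2) p) }
  let R : Rels wtab Γ (Additive σ.ker) :=
    { y := y
      ι := fun p => ((Additive.toMul p : σ.ker) : Γ)
      t := t
      ι_add := fun _ _ => rfl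
      ι_inj := fun p q h => Additive.toMul.injective (Subtype.ext h)
      ι_comm := fun p g => (Subgroup.mem_center_iff.1 (hc (Additive.toMul p).2) g).symm
      sq := fun a ha => by rw [ht a a le_rfl ha (by omega)]; simp [T]
      cm := fun a b hab hb hop => by
        rw [ht a b hab.le hb hop]
        simp only [T, if_neg (show a ≠ b by omega)]
        rw [mul_inv_cancel_left] }
  have hg : ∀ x ∈ gaugePairs, R.t (var x.1 x.2) = 0 := by
    intro x hx
    obtain ⟨k, hk, rfl⟩ : ∃ k, k < 48 ∧ P k = x := by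
      obtain ⟨k, hk, e⟩ := List.getElem_of_mem hx
      exact ⟨k, gauge_length ▸ hk, by rw [hP, List.getD_eq_getElem _ _ hk, e]⟩
    obtain ⟨h1, h2, h3, h4⟩ := gauge_at hk
    rw [← hP] at h1 h2 h3 h4
    set a := (P k).1
    set b := (P k).2
    refine Additive.toMul.injective (Subtype.ext ?_)
    show ((Additive.toMul (t (var a b)) : σ.ker) : Γ) = 1
    rw [ht a b h1.le h2 h3]
    simp only [T, if_neg (show a ≠ b by omega), h4, evw, List.map_cons, List.map_nil, List.prod_cons, List.prod_nil,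
      mul_one]
    rw [inv_mul_eq_one]
    -- the lifts agree up to the kernel
    have hd : ∀ c < 48, ∃ d ∈ Subgroup.center Γ, y c = y0 c * d := fun c hc' =>
      ⟨(y0 c)⁻¹ * y c, hc (by rw [MonoidHom.mem_ker, map_mul, map_inv, hy c hc', hy0, inv_mul_cancel]),
        (mul_inv_cancel_left _ _).symm⟩
    obtain ⟨da, hda, ea⟩ := hd a (by omega)
    obtain ⟨db, hdb, eb⟩ := hd b h2
    have hda' := Subgroup.mem_center_iff.1 hda
    have hdb' := Subgroup.mem_center_iff.1 hdb
    have key : y k = (y b * y a)⁻¹ * (y a * y b) := by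
      have e1 : y a * y b = y0 a * y0 b * (da * db) := by
        rw [ea, eb, mul_assoc (y0 a) da, ← mul_assoc da, ← hda', mul_assoc, ← mul_assoc]
      have e2 : y b * y a = y0 b * y0 a * (da * db) := by
        rw [ea, eb, mul_assoc (y0 b) db, ← mul_assoc db, ← hdb', mul_assoc, hdb' da, ← mul_assoc]
      have hcm : ∀ g, g * (da * db) = (da * db) * g := Subgroup.mem_center_iff.1 (mul_mem hda hdb)
      rw [e1, e2, hcm (y0 a * y0 b), hcm (y0 b * y0 a)]
      rw [ydef]
      show (y0 b * y0 a)⁻¹ * (y0 a * y0 b) = _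
      group
    rw [key, mul_inv_cancel_left]
  obtain ⟨hall, h2⟩ := tails_spec R hg
  let z : Γ := R.ι (t zvar)
  have hz : ∀ a b, a ≤ b → b < 48 → a + b ≠ 47 → T a b ∈ Subgroup.zpowers z := by
    intro a b hab hb hop
    rw [← ht a b hab hb hop]
    refine ⟨kval (var a b), ?_⟩
    have := congrArg (fun p => R.ι p) (hall a b hab hb hop)
    refine Eq.trans ?_ this.symm
    show z ^ kval (var a b) = ((Additive.toMul (kval (var a b) • t zvar) : σ.ker) : Γ)
    rw [toMul_zsmul, Subgroup.coe_zpow]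
  refine ⟨y, z, (Additive.toMul (t zvar)).2, ?_, hy, fun a ha => ?_, fun a b hab hb hop => ?_⟩
  · show R.ι (t zvar) * R.ι (t zvar) = 1
    rw [← R.ι_add, h2, R.ι_zero]
  · simpa [T] using hz a a le_rfl ha (by omega)
  · simpa [T, show a ≠ b by omega] using hz a b hab.le hb hop

/-- The kernel of a stem extension is a quotient of the group of order two. -/
theorem bound {Γ : Type u} [Group Γ] (σ : Γ →* ↥(chevF4.group F)) (h : Cfsg.IsStemExtension σ) :
    ∃ π : Multiplicative (ZMod 2) →* σ.ker, Function.Surjective π := by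
  classical
  obtain ⟨y, z, hz, hz2, hy, hsq, hcm⟩ := exists_lifts hF σ h.1 h.2.1
  have hzc := h.2.1 hz
  haveI : (Subgroup.zpowers z).Normal := ⟨fun g hg x => by
    obtain ⟨k, rfl⟩ := Subgroup.mem_zpowers_iff.1 hg
    rw [Subgroup.mem_center_iff.1 (zpow_mem hzc k) x, mul_inv_cancel_right]
    exact ⟨k, rfl⟩⟩
  let q : Γ →* Γ ⧸ Subgroup.zpowers z := QuotientGroup.mk' _
  have qsq : ∀ a < 48, q (y a) * q (y a) = 1 := fun a ha => by
    rw [← map_mul]; exact (QuotientGroup.eq_one_iff _).2 (hsq a ha)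
  have qev : ∀ w : List ℕ, q (evw y w) = evw (fun k => q (y k)) w := fun w => by
    rw [evw, evw, map_list_prod, List.map_map]; rfl
  have qcm : ∀ a b, a < b → b < 48 → a + b ≠ 47 →
      q (y a) * q (y b) = q (y b) * q (y a) * evw (fun k => q (y k)) (wordOf wtab a b) := fun a b hab hb hop => by
    rw [← qev, ← map_mul, ← map_mul, ← map_mul]
    exact ((QuotientGroup.eq.2 (hcm a b hab hb hop))).symm
  obtain ⟨s, hsy⟩ := exists_hom hF (fun k => q (y k)) qsq qcm
  have hle : Subgroup.zpowers z ≤ σ.ker := Subgroup.zpowers_le.2 hz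
  let σq : Γ ⧸ Subgroup.zpowers z →* ↥(chevF4.group F) := QuotientGroup.lift _ σ hle
  have hs : ∀ g, σq (s g) = g := by
    refine DFunLike.congr_fun (group_ext (σq.comp s) (MonoidHom.id _) fun r hr t => ?_)
    rcases eq_zero_or_one hF t with rfl | rfl
    · rw [xF_zero r hr, map_one, map_one]
    · rw [MonoidHom.comp_apply, hsy r hr]
      exact hy r hr
  have hP := Spor.Cos.Fi24Mult.stem_perfect σ h (group_perfect hF)
  have hker : ∀ x, q x * (s (σ x))⁻¹ ∈ Subgroup.center (Γ ⧸ Subgroup.zpowers z) := fun x => by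
    obtain ⟨w, hw⟩ := QuotientGroup.mk_surjective (q x * (s (σ x))⁻¹)
    have hw1 : σ w = 1 := by
      show σq (q w) = 1
      rw [show q w = q x * (s (σ x))⁻¹ from hw, map_mul, map_inv, hs]
      exact mul_inv_cancel (σ x)
    rw [Subgroup.mem_center_iff, ← hw]
    intro v
    obtain ⟨v, rfl⟩ := QuotientGroup.mk_surjective v
    exact congrArg q (Subgroup.mem_center_iff.1 (h.2.1 hw1) v)
  let φ : Γ →* Γ ⧸ Subgroup.zpowers z := MonoidHom.mk' (fun x => q x * (s (σ x))⁻¹) fun a b => by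
    have hb := Subgroup.mem_center_iff.1 (hker b)
    rw [map_mul, map_mul, map_mul, mul_inv_rev]
    calc q a * q b * ((s (σ b))⁻¹ * (s (σ a))⁻¹) = q a * (q b * (s (σ b))⁻¹) * (s (σ a))⁻¹ := by
          simp only [mul_assoc]
      _ = q a * (s (σ a))⁻¹ * (q b * (s (σ b))⁻¹) := by rw [mul_assoc (q a), ← hb]; simp only [mul_assoc]
  have hmem : ∀ x ∈ σ.ker, x ∈ Subgroup.zpowers z := fun x hx => by
    have h1 := Spor.Cos.Fi24Mult.hom_eq_one hP φ
      (fun a b => (Subgroup.mem_center_iff.1 (hker a) _).symm) x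
    refine (QuotientGroup.eq_one_iff x).1 ?_
    show q x = 1
    rw [MonoidHom.mem_ker] at hx
    simpa [φ, hx] using h1
  refine ⟨MonoidHom.mk' (fun k => (⟨z, hz⟩ : σ.ker) ^ k.toAdd.val) fun a b => ?_, fun x => ?_⟩
  · have hz' : (⟨z, hz⟩ : σ.ker) ^ 2 = 1 := Subtype.ext (by simp [pow_two, hz2])
    rw [← pow_add, toAdd_mul, ZMod.val_add]
    conv_rhs => rw [← Nat.div_add_mod (a.toAdd.val + b.toAdd.val) 2, pow_add, pow_mul, hz', one_pow, one_mul]
  · obtain ⟨k, hk⟩ := Subgroup.mem_zpowers_iff.1 (hmem x x.2)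
    have hz' : z ^ 2 = 1 := by rw [pow_two, hz2]
    refine ⟨Multiplicative.ofAdd (k : ZMod 2), Subtype.ext ?_⟩
    show z ^ ((k : ZMod 2)).val = (x : Γ)
    have hv : (((k : ZMod 2)).val : ℤ) = k % ((2 : ℕ) : ℤ) := ZMod.val_intCast k
    rw [← hk, ← zpow_natCast, hv]
    conv_rhs => rw [← Int.emod_add_mul_ediv k ((2 : ℕ) : ℤ), zpow_add, zpow_mul, zpow_natCast, hz', one_zpow, mul_one]

end Cfsg.Agent.Lie.Chev.F4Mult
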