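import Cfsg.Agent.Lib.Lie.Chev.F4Mult.RepData
import Cfsg.Agent.Lib.Lie.Chev.F4Mult.Lifts
import Cfsg.Agent.Lib.Lie.Chev.CurtisTitsIso
import Cfsg.Agent.S1078

/-!
Curtis and Tits: involutions at the roots of the rank two subsystems with their formulas give an image of F4 over two
elements.
-/

set_option autoImplicit false
set_option maxRecDepth 100000

universe u

namespace Cfsg.Agent.Lie.Chev.F4Mult

open Cfsg.Lie

/-- The roots of the subsystem of two fundamental roots. -/
def subOf (i j : ℕ) : List ℕ := (List.range 48).filter (certFullF4.T.inSub i j)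

theorem sub_table : ((List.range 4).all fun i => (List.range 4).all fun j => (subOf i j).all fun r =>
    subRoots.contains r && (subOf i j).all fun s =>
      Nat.beq s r || Nat.beq (s + r) 47 || subPairs.contains (s, r)) = true := by decide +kernel

theorem sub_cover : subRoots.all (fun r => Nat.blt r 48 &&
    (List.range 4).any fun i => (List.range 4).any fun j => certFullF4.T.inSub i j r) = true := by decide +kernel

theorem subPairs_terms : subPairs.all (fun p => (wordOf wtab p.1 p.2).all subRoots.contains) = true := by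
  decide +kernel

theorem rank_F4 : chevF4.rank = 4 := by rw [certFullF4.rank_eq]; decide +kernel

theorem mem_subRoots {i j r : ℕ} (h : chevF4.InRankTwoSub i j r) : r ∈ subRoots := by
  obtain ⟨hr, hi, hj, hs⟩ := certFullF4.sub_iff.1 h
  rw [nroots_F4] at hr
  rw [rank_F4] at hi hj
  have := List.all_eq_true.1 (List.all_eq_true.1 (List.all_eq_true.1 sub_table i (List.mem_range.2 hi)) j
    (List.mem_range.2 hj)) r (List.mem_filter.2 ⟨List.mem_range.2 hr, hs⟩)
  rw [Bool.and_eq_true] at this
  simpa using this.1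

theorem mem_subPairs {i j r s : ℕ} (hr' : chevF4.InRankTwoSub i j r) (hs' : chevF4.InRankTwoSub i j s)
    (hne : s ≠ r) (hop : s + r ≠ 47) : (s, r) ∈ subPairs := by
  obtain ⟨hr, hi, hj, hrs⟩ := certFullF4.sub_iff.1 hr'
  obtain ⟨hs, -, -, hss⟩ := certFullF4.sub_iff.1 hs'
  rw [nroots_F4] at hr hs
  rw [rank_F4] at hi hj
  have := List.all_eq_true.1 (List.all_eq_true.1 (List.all_eq_true.1 sub_table i (List.mem_range.2 hi)) j
    (List.mem_range.2 hj)) r (List.mem_filter.2 ⟨List.mem_range.2 hr, hrs⟩)
  rw [Bool.and_eq_true, List.all_eq_true] at this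
  have h := this.2 s (List.mem_filter.2 ⟨List.mem_range.2 hs, hss⟩)
  simpa [Nat.beq_eq, hne, hop] using h

theorem subRoots_lt {r : ℕ} (hr : r ∈ subRoots) : r < 48 := by
  have := List.all_eq_true.1 sub_cover r hr
  rw [Bool.and_eq_true] at this
  exact Nat.le_of_ble_eq_true this.1

theorem exists_sub {r : ℕ} (hr : r ∈ subRoots) : ∃ i j, chevF4.InRankTwoSub i j r := by
  have := List.all_eq_true.1 sub_cover r hr
  simp only [Bool.and_eq_true, List.any_eq_true, List.mem_range] at this
  obtain ⟨h1, i, hi, j, hj, h⟩ := this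
  exact ⟨i, j, certFullF4.sub_iff.2 ⟨by rw [nroots_F4]; exact Nat.le_of_ble_eq_true h1, by rw [rank_F4]; exact hi,
    by rw [rank_F4]; exact hj, h⟩⟩

variable {F : Type u} [Field F] [Fintype F] (hF : Fintype.card F = 2)
include hF

omit hF in
/-- The group of Curtis and Tits is the group. -/
theorem exists_ct_toGroup : ∃ κ : chevF4.CurtisTitsGroup F ≃* ↥(chevF4.group F),
    ∀ (i j r : ℕ) (t : F), chevF4.InRankTwoSub i j r →
      κ (PresentedGroup.mk (chevF4.curtisTitsRels F) (chevF4.stX r t)) = xF r t := by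
  obtain ⟨hsub, hN, hP⟩ := ctF4
  obtain ⟨e, he⟩ := certFullF4.exists_ct_equiv F hsub hN hP
  set S := certFullF4.stGroupData F
  have hbij : Function.Bijective S.toGroup := by
    refine ⟨(MonoidHom.ker_eq_bot_iff _).1 ?_, S.toGroup_surjective⟩
    rw [S.ker_toGroup, S.ker_eq_center hN]
    exact S1078.result (K := F) chevF4 (by simp)
  refine ⟨e.trans (MulEquiv.ofBijective _ hbij), fun i j r t h => ?_⟩
  rw [MulEquiv.trans_apply, he i j r t h]
  exact Subtype.ext (S.θX r h.1 t)

omit hF in
/-- A subgroup holding the root elements of the rank two subsystems is everything. -/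
theorem sub_induction (S : Subgroup ↥(chevF4.group F)) (hS : ∀ r ∈ subRoots, ∀ t : F, xF r t ∈ S)
    (g : ↥(chevF4.group F)) : g ∈ S := by
  obtain ⟨κ, hκ⟩ := exists_ct_toGroup (F := F)
  have h : ⊤ ≤ S.comap κ.toMonoidHom := by
    rw [← PresentedGroup.closure_range_of (chevF4.curtisTitsRels F), Subgroup.closure_le]
    rintro g ⟨⟨r, t⟩, rfl⟩
    show κ (PresentedGroup.of (r, t)) ∈ S
    have e : PresentedGroup.of (r, t) = PresentedGroup.mk (chevF4.curtisTitsRels F) (chevF4.stX r t) := by
      rw [ChevalleyDatum.stX, dif_pos r.2]; rfl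
    rw [e]
    by_cases h : ∃ i j, chevF4.InRankTwoSub i j r
    · obtain ⟨i, j, h⟩ := h
      rw [hκ i j r t h]
      exact hS r (mem_subRoots h) t
    · push Not at h
      rw [PresentedGroup.one_of_mem (rels := chevF4.curtisTitsRels F)
        (Or.inl (Or.inl (Or.inl ⟨r, t, r.2, h, rfl⟩))), map_one]
      exact one_mem _
  have := h (Subgroup.mem_top (κ.symm g))
  simpa using this

/-- Involutions with the formulas of the rank two subsystems are an image of the group. -/
theorem exists_subHom {Q : Type*} [Group Q] (y : ℕ → Q) (qsq : ∀ a ∈ subRoots, y a * y a = 1)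
    (qcm : ∀ a b, (a, b) ∈ subPairs → y a * y b = y b * y a * evw y (wordOf wtab a b)) :
    ∃ τ : ↥(chevF4.group F) →* Q, ∀ r ∈ subRoots, τ (xF r 1) = y r := by
  classical
  let Y : ℕ → F → Q := fun r t => if t = 0 ∨ r ∉ subRoots then 1 else y r
  let f : Fin chevF4.nroots × F → Q := fun x => Y x.1 x.2
  have hY0 : ∀ r, Y r 0 = 1 := fun r => if_pos (Or.inl rfl)
  have hY1 : ∀ r ∈ subRoots, Y r 1 = y r := fun r hr => if_neg (by simp [hr])
  have hX : ∀ r < chevF4.nroots, ∀ t : F, FreeGroup.lift f (chevF4.stX r t) = Y r t := fun r hr t => by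
    rw [ChevalleyDatum.stX, dif_pos hr, FreeGroup.lift_apply_of]
  obtain ⟨hsub, -, -⟩ := ctF4
  have hrel : ∀ g ∈ chevF4.curtisTitsRels F, FreeGroup.lift f g = 1 := by
    rintro g (((⟨r, t, hr, hno, rfl⟩ | ⟨i, j, r, t, u, h, rfl⟩) |
      ⟨i, j, r, s, t, u, h, hs, e1, e2, rfl⟩) | ⟨i, j, r, t, u, h, ht, hu, rfl⟩)
    · rw [hX r hr]
      refine if_pos (Or.inr fun hc => ?_)
      obtain ⟨i, j, hij⟩ := exists_sub hc
      exact hno i j hij
    · simp only [map_mul, map_inv, hX r h.1]
      rcases eq_zero_or_one hF t with rfl | rfl <;> rcases eq_zero_or_one hF u with rfl | rfl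
      · simp [hY0]
      · simp [hY0]
      · simp [hY0]
      · simp [one_add_one hF, hY0, hY1 r (mem_subRoots h), qsq r (mem_subRoots h)]
    · have hr' : r < 48 := nroots_F4 ▸ h.1
      have hs' : s < 48 := nroots_F4 ▸ hs.1
      have hop : s + r ≠ 47 := by rw [neg_eq hr'] at e2; omega
      have hw : FreeGroup.lift f (chevF4.stWord (chevF4.commWord F r s t u)) =
          ((certFullF4.T.commTerms r s).map fun x =>
            Y x.1 ((x.2.1 : F) * (-t) ^ x.2.2.1 * u ^ x.2.2.2)).prod := by
        rw [ChevalleyDatum.stWord, ChevalleyDatum.commWord, certFullF4.commTerms_eq h.1 hs.1, map_list_prod,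
          List.map_map, List.map_map]
        exact congrArg List.prod (List.map_congr_left fun x hx =>
          hX _ (certFullF4.mem_commTerms h.1 hs.1 hx).1 _)
      simp only [map_mul, map_inv, hX r h.1, hX s hs.1, hw]
      rcases eq_zero_or_one hF t with rfl | rfl
      · rw [show ((certFullF4.T.commTerms r s).map fun x =>
            Y x.1 ((x.2.1 : F) * (-0) ^ x.2.2.1 * u ^ x.2.2.2)).prod = 1 from List.prod_eq_one fun v hv => by
          obtain ⟨x, hx, rfl⟩ := List.mem_map.1 hv
          have := (certFullF4.mem_commTerms h.1 hs.1 hx).2.1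
          simp [hY0, neg_zero, zero_pow (show x.2.2.1 ≠ 0 by omega)]]
        simp [hY0]
      rcases eq_zero_or_one hF u with rfl | rfl
      · rw [show ((certFullF4.T.commTerms r s).map fun x =>
            Y x.1 ((x.2.1 : F) * (-1) ^ x.2.2.1 * (0 : F) ^ x.2.2.2)).prod = 1 from List.prod_eq_one fun v hv => by
          obtain ⟨x, hx, rfl⟩ := List.mem_map.1 hv
          have := (certFullF4.mem_commTerms h.1 hs.1 hx).2.2.1
          simp [hY0, zero_pow (show x.2.2.2 ≠ 0 by omega)]]
        simp [hY0]
      have hp := mem_subPairs h hs e1 hop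
      have hev : evw (fun k => Y k 1) (wordOf wtab s r) = evw y (wordOf wtab s r) :=
        congrArg List.prod (List.map_congr_left fun k hk => hY1 k (List.mem_of_elem_eq_true
          (by
            have := List.all_eq_true.1 subPairs_terms _ hp
            exact List.all_eq_true.1 this k hk)))
      rw [wordOf_eq hF hs' hr' e1 hop Y fun k _ => hY0 k, hY1 r (mem_subRoots h), hY1 s (mem_subRoots hs), hev,
        mul_inv_eq_one, mul_assoc ((y s)⁻¹ * (y r)⁻¹), qcm s r hp]
      group
    · obtain rfl : t = 1 := (eq_zero_or_one hF t).resolve_left ht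
      obtain rfl : u = 1 := (eq_zero_or_one hF u).resolve_left hu
      have hn := (certFullF4.ct_closed hsub h).1
      have h1 : FreeGroup.lift f (chevF4.stH r (1 : F)) = 1 := by
        rw [ChevalleyDatum.stH, ChevalleyDatum.stWord, ChevalleyDatum.hWord, ChevalleyDatum.nWord,
          ChevalleyDatum.nWord]
        simp only [List.cons_append, List.nil_append, List.map_cons, List.map_nil, List.prod_cons,
          List.prod_nil, map_mul, map_one, mul_one, hX r h.1, hX _ hn.1, inv_one, inv_neg, neg_neg, neg_one hF,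
          hY1 r (mem_subRoots h), hY1 _ (mem_subRoots hn)]
        have a1 := qsq r (mem_subRoots h)
        have a2 := qsq _ (mem_subRoots hn)
        simp only [← mul_assoc]
        simp [mul_assoc, a1, a2]
      simp [h1]
  let τ : chevF4.CurtisTitsGroup F →* Q := PresentedGroup.toGroup hrel
  obtain ⟨κ, hκ⟩ := exists_ct_toGroup (F := F)
  refine ⟨τ.comp κ.symm.toMonoidHom, fun r hr => ?_⟩
  obtain ⟨i, j, h⟩ := exists_sub hr
  rw [MonoidHom.comp_apply, MulEquiv.coe_toMonoidHom, ← hκ i j r 1 h, MulEquiv.symm_apply_apply]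
  exact (hX r h.1 1).trans (hY1 r hr)

end Cfsg.Agent.Lie.Chev.F4Mult
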