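import Cfsg.Agent.Lib.Lie.Chev.F4Mult.RepChecks
import Cfsg.Agent.Lib.Lie.Chev.F4Mult.SubHom
import Cfsg.Prelude.Def_KGroupFacts

/-! A stem extension of F4 over two elements with kernel of order two, inside the product with GL(52, 5). -/

set_option autoImplicit false
set_option maxRecDepth 100000
set_option maxHeartbeats 2000000

universe u

namespace Cfsg.Agent.Lie.Chev.F4Mult

open Cfsg.Lie
open scoped commutatorElement

/-- The matrices acting. -/
abbrev Mon : Type := Matrix (Fin 52) (Fin 52) (ZMod 5)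

/-- A generator as an invertible matrix. -/
def gmat (a : ℕ) : Monˣ :=
  if h : a ∈ subRoots then ⟨mat a, mat a, mat_sq h (sq_all a h), mat_sq h (sq_all a h)⟩ else 1

theorem gmat_val {a : ℕ} (h : a ∈ subRoots) : (gmat a : Mon) = mat a := by rw [gmat, dif_pos h]

theorem evw_gmat (w : List ℕ) (hw : ∀ k ∈ w, k ∈ subRoots) : ((evw gmat w : Monˣ) : Mon) = evw mat w := by
  induction w with
  | nil => simp [evw]
  | cons a w ih =>
    rw [evw_cons, evw_cons, Units.val_mul, gmat_val (hw a (List.mem_cons_self ..)),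
      ih fun k hk => hw k (List.mem_cons_of_mem _ hk)]

theorem gmat_rels : (∀ a ∈ subRoots, gmat a * gmat a = 1) ∧ ∀ a b, (a, b) ∈ subPairs →
    gmat a * gmat b = gmat b * gmat a * evw gmat (wordOf wtab a b) * (bif signOf a b then -1 else 1) := by
  refine ⟨fun a ha => Units.ext ?_, fun a b hp => Units.ext ?_⟩
  · rw [Units.val_mul, gmat_val ha, Units.val_one]
    exact mat_sq ha (sq_all a ha)
  · obtain ⟨ha, hb, hw⟩ := subPairs_mem hp
    simp only [Units.val_mul, gmat_val ha, gmat_val hb, evw_gmat _ hw]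
    rw [mat_comm hp (pairs_all _ hp)]
    cases signOf a b <;> simp

theorem signs_spec : signOf 13 33 = true ∧ signOf 23 26 = false ∧ signOf 17 28 = false ∧
    wordOf wtab 13 33 = [20] ∧ wordOf wtab 23 26 = [25] ∧ wordOf wtab 17 28 = [20, 25] ∧
    (13, 33) ∈ subPairs ∧ (23, 26) ∈ subPairs ∧ (17, 28) ∈ subPairs := by decide +kernel

theorem subPairs_ne : subPairs.all (fun p => !(Nat.beq p.1 p.2) && !(Nat.beq (p.1 + p.2) 47)) = true := by
  decide +kernel

theorem subPairs_ne' {a b : ℕ} (h : (a, b) ∈ subPairs) : a ≠ b ∧ a + b ≠ 47 := by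
  have := List.all_eq_true.1 subPairs_ne _ h
  simp only [Bool.and_eq_true, Bool.not_eq_true'] at this
  exact ⟨Nat.ne_of_beq_eq_false this.1, Nat.ne_of_beq_eq_false this.2⟩

theorem neg_one_ne : (-1 : Monˣ) ≠ 1 := fun h => by
  have h' := congrArg (fun m : Monˣ => (m : Mon) 0 0) h
  simp only [Units.val_neg, Units.val_one, Matrix.neg_apply, Matrix.one_apply_eq] at h'
  revert h'
  decide

theorem mem_commutator_of_three {G : Type*} [Group G] {a b c d e f k l z : G} (h1 : a * b = b * a * k * z)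
    (h2 : c * d = d * c * l) (h3 : e * f = f * e * (k * l)) : z ∈ commutator G := by
  have key : ∀ a b c : G, a * b = b * a * c → c ∈ commutator G := fun a b c h => by
    have e : c = ⁅a⁻¹, b⁻¹⁆ := by
      rw [commutatorElement_def, inv_inv, inv_inv, mul_assoc, h]
      group
    rw [e]
    exact Subgroup.commutator_mem_commutator (Subgroup.mem_top _) (Subgroup.mem_top _)
  have c1 := key a b (k * z) (by rw [← mul_assoc]; exact h1)
  have h := inv_mem (mul_mem (mul_mem (inv_mem c1) (key _ _ _ h3)) (inv_mem (key _ _ _ h2)))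
  rwa [show ((k * z)⁻¹ * (k * l) * l⁻¹)⁻¹ = z by group] at h

theorem evw_single {G : Type*} [Monoid G] (y : ℕ → G) (k : ℕ) : evw y [k] = y k := by simp [evw]

theorem evw_pair {G : Type*} [Monoid G] (y : ℕ → G) (k l : ℕ) : evw y [k, l] = y k * y l := by simp [evw]

theorem pair_sq {G : Type*} [Group G] : ((-1, 1) : Monˣ × G) * (-1, 1) = 1 := by
  refine Prod.ext ?_ (one_mul 1)
  rw [Prod.fst_mul, Prod.fst_one]
  simp

theorem pair_ne {G : Type*} [Group G] : ((-1, 1) : Monˣ × G) ≠ 1 := fun h =>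
  neg_one_ne (by simpa only [Prod.fst_one] using congrArg Prod.fst h)

theorem nonempty_mulEquiv {G : Type*} [Group G] (K : Subgroup G) (h : Nat.card K = 2) :
    Nonempty (K ≃* Multiplicative (ZMod 2)) := by
  haveI : Fact (Nat.Prime 2) := ⟨Nat.prime_two⟩
  exact ⟨mulEquivOfPrimeCardEq (p := 2) h (by simp)⟩

variable {F : Type u} [Field F] [Fintype F] (hF : Fintype.card F = 2)
include hF

/-- A stem extension with kernel of order two. -/
theorem existence : ∃ (Γ : Type u) (_ : Group Γ) (_ : Finite Γ) (σ : Γ →* ↥(chevF4.group F)),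
    Cfsg.IsStemExtension σ ∧ Nonempty (σ.ker ≃* Multiplicative (ZMod 2)) := by
  classical
  let g : ℕ → Monˣ × ↥(chevF4.group F) := fun a => (gmat a, xF a 1)
  let z : Monˣ × ↥(chevF4.group F) := (-1, 1)
  let T : Set (Monˣ × ↥(chevF4.group F)) := insert z (g '' {a | a ∈ subRoots})
  let H : Subgroup (Monˣ × ↥(chevF4.group F)) := Subgroup.closure T
  obtain ⟨y, hyv⟩ : ∃ y : ℕ → H, ∀ a ∈ subRoots, ((y a : H) : Monˣ × ↥(chevF4.group F)) = g a :=
    ⟨fun a => if h : a ∈ subRoots then ⟨g a, Subgroup.subset_closure (Or.inr ⟨a, h, rfl⟩)⟩ else 1,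
      fun a ha => by simp [ha]⟩
  let Z : H := ⟨z, Subgroup.subset_closure (Or.inl rfl)⟩
  let σ : H →* ↥(chevF4.group F) := (MonoidHom.snd _ _).comp H.subtype
  have hcen : Z ∈ Subgroup.center H := Subgroup.mem_center_iff.2 fun x => by
    refine Subtype.ext (Prod.ext (Units.ext ?_) ?_)
    · show ((x : Monˣ × ↥(chevF4.group F)).1 : Mon) * ((-1 : Monˣ) : Mon) = ((-1 : Monˣ) : Mon) * _
      simp
    · show (x : Monˣ × ↥(chevF4.group F)).2 * 1 = 1 * _
      rw [mul_one, one_mul]
  have hZσ : σ Z = 1 := rfl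
  have hevg : ∀ w : List ℕ, (∀ k ∈ w, k ∈ subRoots) →
      ((evw y w : H) : Monˣ × ↥(chevF4.group F)) = (evw gmat w, evw (fun k => xF (F := F) k 1) w) := by
    intro w hw
    induction w with
    | nil => rfl
    | cons a w ih =>
      rw [evw_cons, Subgroup.coe_mul, hyv a (hw a (List.mem_cons_self ..)),
        ih fun k hk => hw k (List.mem_cons_of_mem _ hk)]
      rfl
  have hsq : ∀ a ∈ subRoots, y a * y a = 1 := fun a ha => Subtype.ext <| by
    rw [Subgroup.coe_mul, hyv a ha]
    exact Prod.ext (gmat_rels.1 a ha) (xF_sq hF (subRoots_lt ha))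
  have hcm : ∀ a b, (a, b) ∈ subPairs →
      y a * y b = y b * y a * evw y (wordOf wtab a b) * (bif signOf a b then Z else 1) := by
    intro a b hp
    obtain ⟨ha, hb, hw⟩ := subPairs_mem hp
    refine Subtype.ext ?_
    rw [Subgroup.coe_mul, Subgroup.coe_mul, Subgroup.coe_mul, Subgroup.coe_mul, hyv a ha, hyv b hb, hevg _ hw]
    refine Prod.ext ?_ ?_
    · show gmat a * gmat b = _
      rw [gmat_rels.2 a b hp]
      cases signOf a b <;> rfl
    · show xF (F := F) a 1 * xF b 1 = _
      rw [xF_comm hF (subRoots_lt ha) (subRoots_lt hb) (subPairs_ne' hp).1 (subPairs_ne' hp).2]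
      cases signOf a b <;> exact (mul_one _).symm
  haveI : (Subgroup.zpowers Z).Normal := ⟨fun v hv x => by
    obtain ⟨k, rfl⟩ := Subgroup.mem_zpowers_iff.1 hv
    rw [Subgroup.mem_center_iff.1 (zpow_mem hcen k) x, mul_inv_cancel_right]
    exact ⟨k, rfl⟩⟩
  let q : H →* H ⧸ Subgroup.zpowers Z := QuotientGroup.mk' _
  have hqZ : q Z = 1 := (QuotientGroup.eq_one_iff _).2 (Subgroup.mem_zpowers _)
  have qev : ∀ w : List ℕ, q (evw y w) = evw (fun k => q (y k)) w := fun w => by
    rw [evw, evw, map_list_prod, List.map_map]; rfl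
  obtain ⟨τ, hτ⟩ := exists_subHom hF (fun a => q (y a))
    (fun a ha => by rw [← map_mul, hsq a ha, map_one])
    (fun a b hp => by
      rw [← map_mul, hcm a b hp, map_mul, map_mul, map_mul, qev]
      cases signOf a b <;> simp [hqZ])
  have hqτ : q = τ.comp σ := by
    refine MonoidHom.eq_of_eqOn_dense (Subgroup.closure_closure_coe_preimage (k := T)) ?_
    rintro ⟨x, hx⟩ (rfl | ⟨a, ha, rfl⟩)
    · show q Z = τ (σ Z)
      rw [hqZ, hZσ, map_one]
    · have e : (⟨g a, hx⟩ : H) = y a := Subtype.ext (hyv a ha).symm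
      rw [e, MonoidHom.comp_apply, show σ (y a) = xF a 1 from congrArg Prod.snd (hyv a ha), hτ a ha]
  have hker : σ.ker = Subgroup.zpowers Z := by
    refine le_antisymm (fun x hx => ?_) (Subgroup.zpowers_le.2 hZσ)
    refine (QuotientGroup.eq_one_iff x).1 ?_
    show q x = 1
    rw [hqτ, MonoidHom.comp_apply, hx, map_one]
  have hsurj : Function.Surjective σ := MonoidHom.range_eq_top.1 <| eq_top_iff.2 fun v _ => by
    refine sub_induction _ (fun r hr t => ?_) v
    rcases eq_zero_or_one hF t with rfl | rfl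
    · rw [xF_zero r (subRoots_lt hr)]; exact one_mem _
    · exact ⟨y r, congrArg Prod.snd (hyv r hr)⟩
  have hcom : Z ∈ commutator H := by
    obtain ⟨s1, s2, s3, w1, w2, w3, p1, p2, p3⟩ := signs_spec
    have hcm' : ∀ (a b : ℕ) (sg : Bool) (w : List ℕ), (a, b) ∈ subPairs → signOf a b = sg →
        wordOf wtab a b = w → y a * y b = y b * y a * evw y w * (bif sg then Z else 1) := by
      intro a b sg w hp es ew
      subst es ew
      exact hcm a b hp
    have h1 := hcm' 13 33 _ _ p1 s1 w1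
    have h2 := hcm' 23 26 _ _ p2 s2 w2
    have h3 := hcm' 17 28 _ _ p3 s3 w3
    rw [evw_single, cond_true] at h1
    rw [evw_single, cond_false, mul_one] at h2
    rw [evw_pair, cond_false, mul_one] at h3
    exact mem_commutator_of_three h1 h2 h3
  have hord : orderOf Z = 2 := orderOf_eq_prime
    (by
      refine Subtype.ext ?_
      rw [Subgroup.coe_pow, Subgroup.coe_one, pow_two]
      exact pair_sq)
    (fun h => by
      have h' : z = 1 := congrArg Subtype.val h
      exact pair_ne h')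
  have hcard : Nat.card σ.ker = 2 := by rw [hker, Nat.card_zpowers, hord]
  refine ⟨H, inferInstance, inferInstance, σ, ⟨hsurj, ?_, ?_⟩, ?_⟩
  · rw [hker]; exact Subgroup.zpowers_le.2 hcen
  · rw [hker]; exact Subgroup.zpowers_le.2 hcom
  · exact nonempty_mulEquiv σ.ker hcard

end Cfsg.Agent.Lie.Chev.F4Mult
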