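import Cfsg.Agent.Lib.Lie.Chev.F4Mult.RepRows

/-! The Curtis-Tits formulas in dimension 52, part 1. -/

set_option autoImplicit false
set_option maxRecDepth 100000
set_option Elab.async false

namespace Cfsg.Agent.Lie.Chev.F4Mult

theorem chk_pairs1_0 : [(13, 20), (14, 13), (14, 23), (14, 27), (17, 20)].all chkPair = true := by decide +kernel

theorem chk_pairs1_1 : [(17, 27), (19, 20), (19, 27), (20, 14), (20, 22)].all chkPair = true := by decide +kernel

theorem chk_pairs1_2 : [(20, 25), (20, 33), (21, 23), (22, 14), (22, 20)].all chkPair = true := by decide +kernel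

theorem chk_pairs1_3 : [(22, 24), (22, 28), (23, 14), (23, 22), (23, 27)].all chkPair = true := by decide +kernel

theorem chk_pairs1_4 : [(24, 20), (24, 25), (24, 33), (25, 19), (25, 23)].all chkPair = true := by decide +kernel

theorem chk_pairs1_5 : [(25, 27), (25, 33), (26, 24), (27, 14), (27, 22)].all chkPair = true := by decide +kernel

theorem chk_pairs1_6 : [(27, 25), (27, 33), (28, 20), (28, 27), (30, 20)].all chkPair = true := by decide +kernel

theorem chk_pairs1_7 : [(30, 27), (33, 20), (33, 24), (33, 34), (34, 27)].all chkPair = true := by decide +kernel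

end Cfsg.Agent.Lie.Chev.F4Mult
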