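import Cfsg.Agent.Lib.Lie.Chev.F4Mult.RepRows

/-! The Curtis-Tits formulas in dimension 52, part 2. -/

set_option autoImplicit false
set_option maxRecDepth 100000
set_option Elab.async false

namespace Cfsg.Agent.Lie.Chev.F4Mult

theorem chk_pairs2_0 : [(13, 27), (14, 20), (14, 24), (14, 34), (17, 22)].all chkPair = true := by decide +kernel

theorem chk_pairs2_1 : [(17, 28), (19, 22), (19, 30), (20, 17), (20, 23)].all chkPair = true := by decide +kernel

theorem chk_pairs2_2 : [(20, 28), (20, 34), (21, 24), (22, 17), (22, 21)].all chkPair = true := by decide +kernel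

theorem chk_pairs2_3 : [(22, 26), (22, 30), (23, 20), (23, 25), (23, 33)].all chkPair = true := by decide +kernel

theorem chk_pairs2_4 : [(24, 21), (24, 26), (25, 14), (25, 20), (25, 24)].all chkPair = true := by decide +kernel

theorem chk_pairs2_5 : [(25, 28), (26, 22), (26, 25), (27, 17), (27, 23)].all chkPair = true := by decide +kernel

theorem chk_pairs2_6 : [(27, 28), (27, 34), (28, 22), (28, 30), (30, 22)].all chkPair = true := by decide +kernel

theorem chk_pairs2_7 : [(30, 28), (33, 22), (33, 25), (34, 14), (34, 33)].all chkPair = true := by decide +kernel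

end Cfsg.Agent.Lie.Chev.F4Mult
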