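import Cfsg.Agent.Lib.Lie.Chev.F4Mult.RepChecks0
import Cfsg.Agent.Lib.Lie.Chev.F4Mult.RepChecks1
import Cfsg.Agent.Lib.Lie.Chev.F4Mult.RepChecks2

/-! All Curtis-Tits formulas in dimension 52. -/

set_option autoImplicit false
set_option maxRecDepth 100000

namespace Cfsg.Agent.Lie.Chev.F4Mult

theorem sq_all : ∀ a ∈ subRoots, chkSq a = true := by
  intro a ha
  simp only [subRoots, List.mem_cons, List.not_mem_nil, or_false] at ha
  rcases ha with rfl | rfl | rfl | rfl | rfl | rfl | rfl | rfl | rfl | rfl | rfl | rfl | rfl | rfl | rfl | rfl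
  · exact List.all_eq_true.1 chk_sq0 _ (by simp)
  · exact List.all_eq_true.1 chk_sq0 _ (by simp)
  · exact List.all_eq_true.1 chk_sq0 _ (by simp)
  · exact List.all_eq_true.1 chk_sq0 _ (by simp)
  · exact List.all_eq_true.1 chk_sq1 _ (by simp)
  · exact List.all_eq_true.1 chk_sq1 _ (by simp)
  · exact List.all_eq_true.1 chk_sq1 _ (by simp)
  · exact List.all_eq_true.1 chk_sq1 _ (by simp)
  · exact List.all_eq_true.1 chk_sq2 _ (by simp)
  · exact List.all_eq_true.1 chk_sq2 _ (by simp)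
  · exact List.all_eq_true.1 chk_sq2 _ (by simp)
  · exact List.all_eq_true.1 chk_sq2 _ (by simp)
  · exact List.all_eq_true.1 chk_sq3 _ (by simp)
  · exact List.all_eq_true.1 chk_sq3 _ (by simp)
  · exact List.all_eq_true.1 chk_sq3 _ (by simp)
  · exact List.all_eq_true.1 chk_sq3 _ (by simp)

theorem pairs_all : ∀ p ∈ subPairs, chkPair p = true := by
  intro p hp
  simp only [subPairs, List.mem_cons, List.not_mem_nil, or_false] at hp
  rcases hp with rfl | rfl | rfl | rfl | rfl | rfl | rfl | rfl | rfl | rfl | rfl | rfl | rfl | rfl | rfl | rfl | rfl | rfl | rfl | rfl | rfl | rfl | rfl | rfl | rfl | rfl | rfl | rfl | rfl | rfl | rfl | rfl | rfl | rfl | rfl | rfl | rfl | rfl | rfl | rfl | rfl | rfl | rfl | rfl | rfl | rfl | rfl | rfl | rfl | rfl | rfl | rfl | rfl | rfl | rfl | rfl | rfl | rfl | rfl | rfl | rfl | rfl | rfl | rfl | rfl | rfl | rfl | rfl | rfl | rfl | rfl | rfl | rfl | rfl | rfl | rfl | rfl | rfl | rfl | rfl | rfl | rfl | rfl | rfl | rfl | rfl | rfl |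 rfl | rfl | rfl | rfl | rfl | rfl | rfl | rfl | rfl | rfl | rfl | rfl | rfl | rfl | rfl | rfl | rfl | rfl | rfl | rfl | rfl | rfl | rfl | rfl | rfl | rfl | rfl | rfl | rfl | rfl | rfl | rfl | rfl
  · exact List.all_eq_true.1 chk_pairs0_0 _ (by simp)
  · exact List.all_eq_true.1 chk_pairs1_0 _ (by simp)
  · exact List.all_eq_true.1 chk_pairs2_0 _ (by simp)
  · exact List.all_eq_true.1 chk_pairs0_0 _ (by simp)
  · exact List.all_eq_true.1 chk_pairs1_0 _ (by simp)
  · exact List.all_eq_true.1 chk_pairs2_0 _ (by simp)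
  · exact List.all_eq_true.1 chk_pairs0_0 _ (by simp)
  · exact List.all_eq_true.1 chk_pairs1_0 _ (by simp)
  · exact List.all_eq_true.1 chk_pairs2_0 _ (by simp)
  · exact List.all_eq_true.1 chk_pairs0_0 _ (by simp)
  · exact List.all_eq_true.1 chk_pairs1_0 _ (by simp)
  · exact List.all_eq_true.1 chk_pairs2_0 _ (by simp)
  · exact List.all_eq_true.1 chk_pairs0_0 _ (by simp)
  · exact List.all_eq_true.1 chk_pairs1_0 _ (by simp)
  · exact List.all_eq_true.1 chk_pairs2_0 _ (by simp)
  · exact List.all_eq_true.1 chk_pairs0_1 _ (by simp)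
  · exact List.all_eq_true.1 chk_pairs1_1 _ (by simp)
  · exact List.all_eq_true.1 chk_pairs2_1 _ (by simp)
  · exact List.all_eq_true.1 chk_pairs0_1 _ (by simp)
  · exact List.all_eq_true.1 chk_pairs1_1 _ (by simp)
  · exact List.all_eq_true.1 chk_pairs2_1 _ (by simp)
  · exact List.all_eq_true.1 chk_pairs0_1 _ (by simp)
  · exact List.all_eq_true.1 chk_pairs1_1 _ (by simp)
  · exact List.all_eq_true.1 chk_pairs2_1 _ (by simp)
  · exact List.all_eq_true.1 chk_pairs0_1 _ (by simp)
  · exact List.all_eq_true.1 chk_pairs1_1 _ (by simp)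
  · exact List.all_eq_true.1 chk_pairs2_1 _ (by simp)
  · exact List.all_eq_true.1 chk_pairs0_1 _ (by simp)
  · exact List.all_eq_true.1 chk_pairs1_1 _ (by simp)
  · exact List.all_eq_true.1 chk_pairs2_1 _ (by simp)
  · exact List.all_eq_true.1 chk_pairs0_2 _ (by simp)
  · exact List.all_eq_true.1 chk_pairs1_2 _ (by simp)
  · exact List.all_eq_true.1 chk_pairs2_2 _ (by simp)
  · exact List.all_eq_true.1 chk_pairs0_2 _ (by simp)
  · exact List.all_eq_true.1 chk_pairs1_2 _ (by simp)
  · exact List.all_eq_true.1 chk_pairs2_2 _ (by simp)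
  · exact List.all_eq_true.1 chk_pairs0_2 _ (by simp)
  · exact List.all_eq_true.1 chk_pairs1_2 _ (by simp)
  · exact List.all_eq_true.1 chk_pairs2_2 _ (by simp)
  · exact List.all_eq_true.1 chk_pairs0_2 _ (by simp)
  · exact List.all_eq_true.1 chk_pairs1_2 _ (by simp)
  · exact List.all_eq_true.1 chk_pairs2_2 _ (by simp)
  · exact List.all_eq_true.1 chk_pairs0_2 _ (by simp)
  · exact List.all_eq_true.1 chk_pairs1_2 _ (by simp)
  · exact List.all_eq_true.1 chk_pairs2_2 _ (by simp)
  · exact List.all_eq_true.1 chk_pairs0_3 _ (by simp)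
  · exact List.all_eq_true.1 chk_pairs1_3 _ (by simp)
  · exact List.all_eq_true.1 chk_pairs2_3 _ (by simp)
  · exact List.all_eq_true.1 chk_pairs0_3 _ (by simp)
  · exact List.all_eq_true.1 chk_pairs1_3 _ (by simp)
  · exact List.all_eq_true.1 chk_pairs2_3 _ (by simp)
  · exact List.all_eq_true.1 chk_pairs0_3 _ (by simp)
  · exact List.all_eq_true.1 chk_pairs1_3 _ (by simp)
  · exact List.all_eq_true.1 chk_pairs2_3 _ (by simp)
  · exact List.all_eq_true.1 chk_pairs0_3 _ (by simp)
  · exact List.all_eq_true.1 chk_pairs1_3 _ (by simp)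
  · exact List.all_eq_true.1 chk_pairs2_3 _ (by simp)
  · exact List.all_eq_true.1 chk_pairs0_3 _ (by simp)
  · exact List.all_eq_true.1 chk_pairs1_3 _ (by simp)
  · exact List.all_eq_true.1 chk_pairs2_3 _ (by simp)
  · exact List.all_eq_true.1 chk_pairs0_4 _ (by simp)
  · exact List.all_eq_true.1 chk_pairs1_4 _ (by simp)
  · exact List.all_eq_true.1 chk_pairs2_4 _ (by simp)
  · exact List.all_eq_true.1 chk_pairs0_4 _ (by simp)
  · exact List.all_eq_true.1 chk_pairs1_4 _ (by simp)
  · exact List.all_eq_true.1 chk_pairs2_4 _ (by simp)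
  · exact List.all_eq_true.1 chk_pairs0_4 _ (by simp)
  · exact List.all_eq_true.1 chk_pairs1_4 _ (by simp)
  · exact List.all_eq_true.1 chk_pairs2_4 _ (by simp)
  · exact List.all_eq_true.1 chk_pairs0_4 _ (by simp)
  · exact List.all_eq_true.1 chk_pairs1_4 _ (by simp)
  · exact List.all_eq_true.1 chk_pairs2_4 _ (by simp)
  · exact List.all_eq_true.1 chk_pairs0_4 _ (by simp)
  · exact List.all_eq_true.1 chk_pairs1_4 _ (by simp)
  · exact List.all_eq_true.1 chk_pairs2_4 _ (by simp)
  · exact List.all_eq_true.1 chk_pairs0_5 _ (by simp)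
  · exact List.all_eq_true.1 chk_pairs1_5 _ (by simp)
  · exact List.all_eq_true.1 chk_pairs2_5 _ (by simp)
  · exact List.all_eq_true.1 chk_pairs0_5 _ (by simp)
  · exact List.all_eq_true.1 chk_pairs1_5 _ (by simp)
  · exact List.all_eq_true.1 chk_pairs2_5 _ (by simp)
  · exact List.all_eq_true.1 chk_pairs0_5 _ (by simp)
  · exact List.all_eq_true.1 chk_pairs1_5 _ (by simp)
  · exact List.all_eq_true.1 chk_pairs2_5 _ (by simp)
  · exact List.all_eq_true.1 chk_pairs0_5 _ (by simp)
  · exact List.all_eq_true.1 chk_pairs1_5 _ (by simp)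
  · exact List.all_eq_true.1 chk_pairs2_5 _ (by simp)
  · exact List.all_eq_true.1 chk_pairs0_5 _ (by simp)
  · exact List.all_eq_true.1 chk_pairs1_5 _ (by simp)
  · exact List.all_eq_true.1 chk_pairs2_5 _ (by simp)
  · exact List.all_eq_true.1 chk_pairs0_6 _ (by simp)
  · exact List.all_eq_true.1 chk_pairs1_6 _ (by simp)
  · exact List.all_eq_true.1 chk_pairs2_6 _ (by simp)
  · exact List.all_eq_true.1 chk_pairs0_6 _ (by simp)
  · exact List.all_eq_true.1 chk_pairs1_6 _ (by simp)
  · exact List.all_eq_true.1 chk_pairs2_6 _ (by simp)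
  · exact List.all_eq_true.1 chk_pairs0_6 _ (by simp)
  · exact List.all_eq_true.1 chk_pairs1_6 _ (by simp)
  · exact List.all_eq_true.1 chk_pairs2_6 _ (by simp)
  · exact List.all_eq_true.1 chk_pairs0_6 _ (by simp)
  · exact List.all_eq_true.1 chk_pairs1_6 _ (by simp)
  · exact List.all_eq_true.1 chk_pairs2_6 _ (by simp)
  · exact List.all_eq_true.1 chk_pairs0_6 _ (by simp)
  · exact List.all_eq_true.1 chk_pairs1_6 _ (by simp)
  · exact List.all_eq_true.1 chk_pairs2_6 _ (by simp)
  · exact List.all_eq_true.1 chk_pairs0_7 _ (by simp)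
  · exact List.all_eq_true.1 chk_pairs1_7 _ (by simp)
  · exact List.all_eq_true.1 chk_pairs2_7 _ (by simp)
  · exact List.all_eq_true.1 chk_pairs0_7 _ (by simp)
  · exact List.all_eq_true.1 chk_pairs1_7 _ (by simp)
  · exact List.all_eq_true.1 chk_pairs2_7 _ (by simp)
  · exact List.all_eq_true.1 chk_pairs0_7 _ (by simp)
  · exact List.all_eq_true.1 chk_pairs1_7 _ (by simp)
  · exact List.all_eq_true.1 chk_pairs2_7 _ (by simp)
  · exact List.all_eq_true.1 chk_pairs0_7 _ (by simp)
  · exact List.all_eq_true.1 chk_pairs1_7 _ (by simp)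
  · exact List.all_eq_true.1 chk_pairs2_7 _ (by simp)
  · exact List.all_eq_true.1 chk_pairs0_7 _ (by simp)
  · exact List.all_eq_true.1 chk_pairs1_7 _ (by simp)
  · exact List.all_eq_true.1 chk_pairs2_7 _ (by simp)

end Cfsg.Agent.Lie.Chev.F4Mult
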