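import Cfsg.Agent.Lib.Lie.Chev.F4Mult.RepRows

/-! The Curtis-Tits formulas in dimension 52, part 0. -/

set_option autoImplicit false
set_option maxRecDepth 100000
set_option Elab.async false

namespace Cfsg.Agent.Lie.Chev.F4Mult

theorem chk_pairs0_0 : [(13, 14), (13, 33), (14, 22), (14, 25), (17, 19)].all chkPair = true := by decide +kernel

theorem chk_pairs0_1 : [(17, 25), (19, 17), (19, 25), (20, 13), (20, 19)].all chkPair = true := by decide +kernel

theorem chk_pairs0_2 : [(20, 24), (20, 30), (21, 22), (21, 25), (22, 19)].all chkPair = true := by decide +kernel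

theorem chk_pairs0_3 : [(22, 23), (22, 27), (22, 33), (23, 21), (23, 26)].all chkPair = true := by decide +kernel

theorem chk_pairs0_4 : [(24, 14), (24, 22), (24, 27), (25, 17), (25, 21)].all chkPair = true := by decide +kernel

theorem chk_pairs0_5 : [(25, 26), (25, 30), (26, 23), (27, 13), (27, 19)].all chkPair = true := by decide +kernel

theorem chk_pairs0_6 : [(27, 24), (27, 30), (28, 17), (28, 25), (30, 19)].all chkPair = true := by decide +kernel

theorem chk_pairs0_7 : [(30, 25), (33, 13), (33, 23), (33, 27), (34, 20)].all chkPair = true := by decide +kernel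

theorem chk_sq0 : [13, 14, 17, 19].all chkSq = true := by decide +kernel

theorem chk_sq1 : [20, 21, 22, 23].all chkSq = true := by decide +kernel

theorem chk_sq2 : [24, 25, 26, 27].all chkSq = true := by decide +kernel

theorem chk_sq3 : [28, 30, 33, 34].all chkSq = true := by decide +kernel

end Cfsg.Agent.Lie.Chev.F4Mult
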