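import Cfsg.Agent.Lib.Lie.Chev.F4Mult.RepData0
import Cfsg.Agent.Lib.Lie.Chev.F4Mult.RepData1

/-! Rows of the faithful representation of the double cover of F4 over two elements, in dimension 52 over five elements. -/

set_option autoImplicit false

namespace Cfsg.Agent.Lie.Chev.F4Mult

/-- The rows of all generators. -/
def repRows : List (List ℕ) := [[], [], [], [], [], [], [], [], [], [], [], [], [], rows13, rows14, [], [], rows17, [], rows19, rows20, rows21, rows22, rows23, rows24, rows25, rows26, rows27, rows28, [], rows30, [], [], rows33, rows34, [], [], [], [], [], [], [], [], [], [], [], [], []]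

/-- The pairs whose formula holds up to sign only. -/
def signBits : ℕ := 0x4000000000002000000000000000000000000000000000000000000000000000000000000000000000000000000000000000000000000000000000000000000000000000000000000000000000000000000000000000000000000000000000000000000000000000000000000000000000000000000400000000000200000000000000000000000000000000000000000000000000000000000000000000000000000000000000000000000000000000000000000000000000000000000000000000000000000000000000000000

/-- The roots in a rank two subsystem of two fundamental roots. -/
def subRoots : List ℕ := [13, 14, 17, 19, 20, 21, 22, 23, 24, 25, 26, 27, 28, 30, 33, 34]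

/-- The pairs sharing such a subsystem, in both orders. -/
def subPairs : List (ℕ × ℕ) := [(13, 14), (13, 20), (13, 27), (13, 33), (14, 13), (14, 20), (14, 22), (14, 23), (14, 24), (14, 25), (14, 27), (14, 34), (17, 19), (17, 20), (17, 22), (17, 25), (17, 27), (17, 28), (19, 17), (19, 20), (19, 22), (19, 25), (19, 27), (19, 30), (20, 13), (20, 14), (20, 17), (20, 19), (20, 22), (20, 23), (20, 24), (20, 25), (20, 28), (20, 30), (20, 33), (20, 34), (21, 22), (21, 23), (21, 24), (21, 25), (22, 14), (22, 17), (22, 19), (22, 20), (22, 21), (22, 23), (22, 24), (22, 26), (22, 27), (22, 28), (22, 30), (22, 33), (23, 14), (23, 20), (23, 21), (23, 22), (23, 25), (23, 26), (23, 27), (23, 33), (24, 14), (24, 20), (24, 21), (24, 22), (24, 25), (24, 26), (24, 27), (24, 33), (25, 14), (25, 17), (25, 19), (25, 20), (25, 21), (25, 23), (25, 24), (25, 26), (25, 27), (25, 28), (25, 30), (25, 33), (26, 22), (26, 23), (26, 24), (26, 25), (27, 13), (27, 14), (27, 17), (27, 19), (27, 22), (27, 23), (27, 24), (27, 25), (27, 28), (27, 30), (27, 33), (27, 34), (28, 17), (28, 20), (28, 22), (28, 25), (28, 27), (28, 30), (30, 19), (30, 20), (30, 22),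 (30, 25), (30, 27), (30, 28), (33, 13), (33, 20), (33, 22), (33, 23), (33, 24), (33, 25), (33, 27), (33, 34), (34, 14), (34, 20), (34, 27), (34, 33)]

end Cfsg.Agent.Lie.Chev.F4Mult
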