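import Cfsg.Agent.Lib.Lie.Chev.F4Mult.RepData
import Cfsg.Agent.Lib.Lie.Chev.F4Mult.Lifts
import Cfsg.Agent.Lib.Spor.Cos.Tree

/-! Products of packed rows over the field with five elements. -/

set_option autoImplicit false
set_option maxRecDepth 100000

namespace Cfsg.Agent.Lie.Chev.F4Mult

open Cfsg.Agent.Spor.Cos (force force_eq)
open Matrix

/-- The entry of a packed row. -/
def fld (v j : ℕ) : ℕ := (v >>> (10 * j)) % 1024

/-- Pack entries. -/
def pack : ℕ → (ℕ → ℕ) → ℕ
  | 0, _ => 0
  | n + 1, f => f 0 + 1024 * pack n fun j => f (j + 1)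

theorem pack_add (n : ℕ) : ∀ f g : ℕ → ℕ, pack n (fun j => f j + g j) = pack n f + pack n g := by
  induction n with
  | zero => intro f g; rfl
  | succ n ih => intro f g; simp only [pack]; rw [ih (fun j => f (j + 1)) fun j => g (j + 1)]; ring

theorem pack_mul (n c : ℕ) : ∀ f : ℕ → ℕ, pack n (fun j => c * f j) = c * pack n f := by
  induction n with
  | zero => intro f; simp [pack]
  | succ n ih => intro f; simp only [pack]; rw [ih fun j => f (j + 1)]; ring

theorem pack_zero (n : ℕ) : pack n (fun _ => 0) = 0 := by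
  induction n with
  | zero => rfl
  | succ n ih => simp [pack, ih]

theorem fld_succ (v j : ℕ) : fld v (j + 1) = fld (v / 1024) j := by
  unfold fld
  rw [show 10 * (j + 1) = 10 + 10 * j by ring, Nat.shiftRight_add,
    show v >>> 10 = v / 1024 by rw [Nat.shiftRight_eq_div_pow]]

theorem fld_zero (v : ℕ) : fld v 0 = v % 1024 := by simp [fld]

theorem fld_pack (n : ℕ) : ∀ (f : ℕ → ℕ), (∀ j < n, f j < 1024) → ∀ j < n, fld (pack n f) j = f j := by
  induction n with
  | zero => intro f _ j hj; omega
  | succ n ih =>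
    intro f hf j hj
    have h0 := hf 0 (by omega)
    cases j with
    | zero => rw [fld_zero, pack]; omega
    | succ j =>
      rw [fld_succ, pack, show (f 0 + 1024 * pack n fun i => f (i + 1)) / 1024 = pack n fun i => f (i + 1) by omega,
        ih _ (fun i hi => hf _ (by omega)) j (by omega)]

theorem pack_fld (n : ℕ) : ∀ v : ℕ, v < 1024 ^ n → pack n (fld v) = v := by
  induction n with
  | zero => intro v hv; simp only [pow_zero] at hv; simp only [pack]; omega
  | succ n ih =>
    intro v hv
    simp only [pack, fld_succ, fld_zero]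
    rw [ih (v / 1024) (Nat.div_lt_of_lt_mul (by rw [pow_succ'] at hv; exact hv))]
    omega

/-- The combination of some rows with the reduced entries of a packed row. -/
noncomputable def vmFrom (u : ℕ) (L : List ℕ) : ℕ → ℕ :=
  List.rec (motive := fun _ => ℕ → ℕ) (fun _ => 0)
    (fun r _ ih k => force k fun k' => fld u k' % 5 * r + ih (k' + 1)) L

/-- A packed row times a matrix. -/
noncomputable def vm (v : ℕ) (L : List ℕ) : ℕ := force v fun u => vmFrom u L 0

/-- A packed row times the matrices of a word. -/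
noncomputable def chain (w : List ℕ) : ℕ → ℕ :=
  List.rec (motive := fun _ => ℕ → ℕ) (fun v => v)
    (fun a _ ih v => force (vm v (repRows.getD a [])) ih) w

/-- The packed row of a generator. -/
def row (a r : ℕ) : ℕ := (repRows.getD a []).getD r 0

/-- The rows of the generators are packed with reduced entries. -/
def rowsOk (a : ℕ) : Bool :=
  Nat.beq (repRows.getD a []).length 52 && (repRows.getD a []).all fun v =>
    Nat.blt v (1024 ^ 52) && (List.range 52).all fun j => Nat.blt (fld v j) 5

theorem rows_ok : subRoots.all rowsOk = true := by decide +kernel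

/-- Two packed rows agree, or are opposite. -/
def eqRow (s : Bool) (x y : ℕ) : Bool :=
  (List.range 52).all fun j => _root_.cond s (Nat.beq ((fld x j + fld y j) % 5) 0) (Nat.beq (fld x j % 5) (fld y j % 5))

/-- The formula of a pair holds only up to sign. -/
def signOf (a b : ℕ) : Bool := Nat.beq ((signBits >>> (48 * a + b)) % 2) 1

/-- A generator is an involution, seen on every row. -/
noncomputable def chkSq (a : ℕ) : Bool :=
  (List.range 52).all fun r => eqRow false (chain [a] (row a r)) (1 <<< (10 * r))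

/-- The formula of a pair, seen on every row. -/
noncomputable def chkPair (p : ℕ × ℕ) : Bool :=
  (List.range 52).all fun r =>
    eqRow (signOf p.1 p.2) (chain [p.2] (row p.1 r)) (chain (p.1 :: wordOf wtab p.1 p.2) (row p.2 r))

theorem subPairs_spec : subPairs.all (fun p => subRoots.contains p.1 && subRoots.contains p.2 &&
    (wordOf wtab p.1 p.2).all subRoots.contains) = true := by decide +kernel

theorem subPairs_mem {a b : ℕ} (h : (a, b) ∈ subPairs) :
    a ∈ subRoots ∧ b ∈ subRoots ∧ ∀ k ∈ wordOf wtab a b, k ∈ subRoots := by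
  have := List.all_eq_true.1 subPairs_spec _ h
  simpa [List.all_eq_true, and_assoc] using this

/-- The entries of a packed row, over five elements. -/
def toVec (v : ℕ) : Fin 52 → ZMod 5 := fun j => (fld v j : ZMod 5)

/-- The matrix of a generator. -/
def mat (a : ℕ) : Matrix (Fin 52) (Fin 52) (ZMod 5) := fun r => toVec (row a r)

theorem cast_mod (x : ℕ) : ((x % 5 : ℕ) : ZMod 5) = x := ZMod.natCast_mod x 5

theorem vmFrom_eq (u : ℕ) : ∀ (L : List ℕ), (∀ r ∈ L, r < 1024 ^ 52) → ∀ k,
    vmFrom u L k = pack 52 fun j => ∑ i ∈ Finset.range L.length, fld u (k + i) % 5 * fld (L.getD i 0) j := by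
  intro L
  induction L with
  | nil => intro _ k; simp [vmFrom, pack_zero]
  | cons r L ih =>
    intro h k
    have e : vmFrom u (r :: L) k = fld u k % 5 * r + vmFrom u L (k + 1) := by
      show force k (fun k' => fld u k' % 5 * r + vmFrom u L (k' + 1)) = _
      rw [force_eq]
    rw [e, ih (fun x hx => h x (List.mem_cons_of_mem _ hx))]
    conv_lhs => rw [← pack_fld 52 r (h r (List.mem_cons_self ..)), ← pack_mul, ← pack_add]
    congr 1
    funext j
    rw [List.length_cons, Finset.sum_range_succ', add_comm (∑ _ ∈ _, _)]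
    simp [add_assoc, add_comm 1]

theorem toVec_vm {a : ℕ} (ha : a ∈ subRoots) (v : ℕ) :
    toVec (vm v (repRows.getD a [])) = toVec v ᵥ* mat a := by
  have hk := List.all_eq_true.1 rows_ok a ha
  rw [rowsOk, Bool.and_eq_true, List.all_eq_true, Nat.beq_eq] at hk
  obtain ⟨hlen, hk⟩ := hk
  simp only [Bool.and_eq_true, List.all_eq_true, List.mem_range, Nat.blt_eq] at hk
  have hsmall : ∀ i < 52, ∀ j < 52, fld (row a i) j < 5 := fun i hi j hj => by
    unfold row
    rw [List.getD_eq_getElem _ _ (by omega)]
    exact (hk _ (List.getElem_mem _)).2 j hj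
  funext j
  unfold vm
  rw [force_eq, vmFrom_eq v _ (fun r hr => (hk r hr).1), hlen]
  show ((fld _ (j : ℕ) : ℕ) : ZMod 5) = _
  rw [fld_pack 52 _ (fun j hj => ?_) j j.2, Nat.cast_sum]
  · rw [Finset.sum_range]
    simp only [Matrix.vecMul, dotProduct, Nat.cast_mul, cast_mod, zero_add, mat, toVec, row]
  · refine lt_of_le_of_lt (Finset.sum_le_card_nsmul _ _ 16 fun i hi => ?_) (by simp)
    have h1 : fld v (0 + i) % 5 ≤ 4 := by omega
    have h2 : fld (row a i) j ≤ 4 := Nat.le_of_lt_succ (hsmall i (Finset.mem_range.1 hi) j hj)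
    exact (Nat.mul_le_mul h1 h2).trans (by norm_num)

theorem toVec_chain : ∀ (w : List ℕ), (∀ a ∈ w, a ∈ subRoots) → ∀ v, toVec (chain w v) = toVec v ᵥ* evw mat w := by
  intro w
  induction w with
  | nil => intro _ v; simp [chain, evw]
  | cons a w ih =>
    intro h v
    show toVec (force _ (chain w)) = _
    rw [force_eq, ih (fun x hx => h x (List.mem_cons_of_mem _ hx)), toVec_vm (h a (List.mem_cons_self ..)),
      Matrix.vecMul_vecMul, evw_cons]

theorem toVec_one (r : Fin 52) : toVec (1 <<< (10 * (r : ℕ))) = (1 : Matrix (Fin 52) (Fin 52) (ZMod 5)) r := by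
  funext j
  have h : ((List.range 52).all fun r => (List.range 52).all fun j =>
      Nat.beq (fld (1 <<< (10 * r)) j) (if Nat.beq r j then 1 else 0)) = true := by decide +kernel
  have h' := Nat.eq_of_beq_eq_true
    (List.all_eq_true.1 (List.all_eq_true.1 h r (List.mem_range.2 r.2)) j (List.mem_range.2 j.2))
  show ((fld _ (j : ℕ) : ℕ) : ZMod 5) = _
  rw [h', Matrix.one_apply]
  by_cases e : r = j
  · simp [e]
  · have e' : (r : ℕ) ≠ j := fun c => e (Fin.ext c)
    simp [e, e', Nat.beq_eq]

theorem eqRow_spec {s : Bool} {x y : ℕ} (h : eqRow s x y = true) :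
    toVec x = _root_.cond s (-toVec y) (toVec y) := by
  funext j
  have hj := List.all_eq_true.1 h j (List.mem_range.2 j.2)
  cases s
  · simp only [cond_false, Nat.beq_eq] at hj
    show ((fld x j : ℕ) : ZMod 5) = (fld y j : ℕ)
    rw [← cast_mod, hj, cast_mod]
  · simp only [cond_true, Nat.beq_eq] at hj
    simp only [cond_true, Pi.neg_apply, toVec]
    rw [eq_neg_iff_add_eq_zero, ← Nat.cast_add, ← cast_mod, hj, Nat.cast_zero]

theorem mat_sq {a : ℕ} (ha : a ∈ subRoots) (h : chkSq a = true) : mat a * mat a = 1 := by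
  simp only [chkSq, List.all_eq_true, List.mem_range] at h
  funext r
  have e := eqRow_spec (h r r.2)
  rw [toVec_chain [a] (by simp [ha]), Bool.cond_false, toVec_one] at e
  rw [Matrix.mul_apply_eq_vecMul, ← e]
  simp [evw, mat]

theorem mat_comm {a b : ℕ} (hp : (a, b) ∈ subPairs) (h : chkPair (a, b) = true) :
    mat a * mat b = _root_.cond (signOf a b) (-(mat b * mat a * evw mat (wordOf wtab a b)))
      (mat b * mat a * evw mat (wordOf wtab a b)) := by
  obtain ⟨ha, hb, hw⟩ := subPairs_mem hp
  simp only [chkPair, List.all_eq_true, List.mem_range] at h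
  have e : ∀ r : Fin 52, (mat a * mat b) r =
      _root_.cond (signOf a b) (-(mat b * mat a * evw mat (wordOf wtab a b)) r)
        ((mat b * mat a * evw mat (wordOf wtab a b)) r) := fun r => by
    have e := eqRow_spec (h r r.2)
    rw [toVec_chain [b] (by simp [hb]), toVec_chain _ (List.forall_mem_cons.2 ⟨ha, hw⟩), evw_cons] at e
    rw [Matrix.mul_apply_eq_vecMul, mul_assoc, Matrix.mul_apply_eq_vecMul]
    simpa [evw, mat] using e
  funext r
  rw [e r]
  cases signOf a b <;> rfl

end Cfsg.Agent.Lie.Chev.F4Mult
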