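import Cfsg.Agent.Lib.Lie.Chev.F4Mult.TailData

/-! All tails of F4 over two elements are multiples of one tail of order two. -/

set_option autoImplicit false
set_option maxRecDepth 100000

namespace Cfsg.Agent.Lie.Chev.F4Mult

theorem steps0_ok : chkSteps wtab kval known0 steps0 = true := by decide +kernel

theorem known0_next : knownAfter known0 steps0 = known1 := by decide +kernel

theorem steps1_ok : chkSteps wtab kval known1 steps1 = true := by decide +kernel

theorem known1_next : knownAfter known1 steps1 = known2 := by decide +kernel

theorem steps2_ok : chkSteps wtab kval known2 steps2 = true := by decide +kernel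

theorem known2_next : knownAfter known2 steps2 = known3 := by decide +kernel

theorem steps3_ok : chkSteps wtab kval known3 steps3 = true := by decide +kernel

theorem known3_next : knownAfter known3 steps3 = known4 := by decide +kernel

theorem steps4_ok : chkSteps wtab kval known4 steps4 = true := by decide +kernel

theorem known4_next : knownAfter known4 steps4 = known5 := by decide +kernel

theorem steps5_ok : chkSteps wtab kval known5 steps5 = true := by decide +kernel

theorem known5_next : knownAfter known5 steps5 = known6 := by decide +kernel

theorem steps6_ok : chkSteps wtab kval known6 steps6 = true := by decide +kernel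

theorem known6_next : knownAfter known6 steps6 = known7 := by decide +kernel

theorem steps7_ok : chkSteps wtab kval known7 steps7 = true := by decide +kernel

theorem known7_next : knownAfter known7 steps7 = known8 := by decide +kernel

theorem steps8_ok : chkSteps wtab kval known8 steps8 = true := by decide +kernel

theorem known8_next : knownAfter known8 steps8 = known9 := by decide +kernel

theorem steps9_ok : chkSteps wtab kval known9 steps9 = true := by decide +kernel

theorem known9_next : knownAfter known9 steps9 = known10 := by decide +kernel

theorem steps10_ok : chkSteps wtab kval known10 steps10 = true := by decide +kernel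

theorem known10_next : knownAfter known10 steps10 = known11 := by decide +kernel

theorem steps11_ok : chkSteps wtab kval known11 steps11 = true := by decide +kernel

theorem known11_next : knownAfter known11 steps11 = known12 := by decide +kernel

theorem known_all : ((List.range 48).all fun a => (List.range 48).all fun b =>
    Nat.blt b a || Nat.beq (a + b) 47 || known12.testBit (var a b)) = true := by decide +kernel

theorem known0_spec : ((List.range 2304).all fun u => !known0.testBit u || Nat.beq u zvar ||
    gaugePairs.any fun x => Nat.beq u (var x.1 x.2)) = true := by decide +kernel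

theorem kval_init : (kval zvar == 1 && gaugePairs.all fun x => kval (var x.1 x.2) == 0) = true := by decide +kernel

/-- The last condition is twice the free tail. -/
def chkLast : Bool :=
  match cond wtab lastStep.1 lastStep.2.1 lastStep.2.2 with
  | some p => Rels.othersKnown known12 2304 p && (Rels.coef 2304 p == 0) &&
      (Rels.others kval 2304 p == 2 || Rels.others kval 2304 p == -2)
  | none => false

theorem chkLast_ok : chkLast = true := by decide +kernel

theorem tails_spec {Γ : Type*} [Group Γ] {A : Type*} [AddCommGroup A] (R : Rels wtab Γ A)
    (hg : ∀ x ∈ gaugePairs, R.t (var x.1 x.2) = 0) :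
    (∀ a b, a ≤ b → b < 48 → a + b ≠ 47 → R.t (var a b) = kval (var a b) • R.t zvar) ∧
      R.t zvar + R.t zvar = 0 := by
  have h0 : ∀ u, known0.testBit u = true → R.t u = kval u • R.t zvar := fun u hu => by
    have hu' : u < 2304 := by
      by_contra h
      have hlt : known0 < 2 ^ u := lt_of_lt_of_le (show known0 < 2 ^ 2304 by decide +kernel)
        (Nat.pow_le_pow_right two_pos (by omega))
      rw [Nat.testBit_lt_two_pow hlt] at hu
      exact Bool.false_ne_true hu
    have h := List.all_eq_true.1 known0_spec u (List.mem_range.2 hu')
    have hi := kval_init
    simp only [hu, Bool.not_true, Bool.false_or, Bool.or_eq_true, Nat.beq_eq, List.any_eq_true] at h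
    simp only [Bool.and_eq_true, beq_iff_eq, List.all_eq_true] at hi
    rcases h with rfl | ⟨x, hx, rfl⟩
    · rw [hi.1, one_smul]
    · rw [hi.2 x hx, zero_smul, hg x hx]
  have h1 : ∀ u, known1.testBit u = true → R.t u = kval u • R.t zvar :=
    known0_next ▸ R.spec steps0 known0 steps0_ok h0
  have h2 : ∀ u, known2.testBit u = true → R.t u = kval u • R.t zvar :=
    known1_next ▸ R.spec steps1 known1 steps1_ok h1
  have h3 : ∀ u, known3.testBit u = true → R.t u = kval u • R.t zvar :=
    known2_next ▸ R.spec steps2 known2 steps2_ok h2
  have h4 : ∀ u, known4.testBit u = true → R.t u = kval u • R.t zvar :=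
    known3_next ▸ R.spec steps3 known3 steps3_ok h3
  have h5 : ∀ u, known5.testBit u = true → R.t u = kval u • R.t zvar :=
    known4_next ▸ R.spec steps4 known4 steps4_ok h4
  have h6 : ∀ u, known6.testBit u = true → R.t u = kval u • R.t zvar :=
    known5_next ▸ R.spec steps5 known5 steps5_ok h5
  have h7 : ∀ u, known7.testBit u = true → R.t u = kval u • R.t zvar :=
    known6_next ▸ R.spec steps6 known6 steps6_ok h6
  have h8 : ∀ u, known8.testBit u = true → R.t u = kval u • R.t zvar :=
    known7_next ▸ R.spec steps7 known7 steps7_ok h7
  have h9 : ∀ u, known9.testBit u = true → R.t u = kval u • R.t zvar :=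
    known8_next ▸ R.spec steps8 known8 steps8_ok h8
  have h10 : ∀ u, known10.testBit u = true → R.t u = kval u • R.t zvar :=
    known9_next ▸ R.spec steps9 known9 steps9_ok h9
  have h11 : ∀ u, known11.testBit u = true → R.t u = kval u • R.t zvar :=
    known10_next ▸ R.spec steps10 known10 steps10_ok h10
  have h12 : ∀ u, known12.testBit u = true → R.t u = kval u • R.t zvar :=
    known11_next ▸ R.spec steps11 known11 steps11_ok h11
  refine ⟨fun a b hab hb hne => h12 _ ?_, ?_⟩
  · have h := List.all_eq_true.1 (List.all_eq_true.1 known_all a (List.mem_range.2 (by omega))) b (List.mem_range.2 hb)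
    simp only [Bool.or_eq_true, Nat.blt_eq, Nat.beq_eq] at h
    exact h.resolve_left (by omega)
  · have h := chkLast_ok
    simp only [chkLast] at h
    split at h
    case h_2 => simp at h
    case h_1 p hp =>
      simp only [Bool.and_eq_true, Bool.or_eq_true, beq_iff_eq] at h
      obtain ⟨⟨hk, hc⟩, ho⟩ := h
      have e := R.cond_zero hp
      rw [R.val_others h12 p hk, hc, zero_smul, zero_add] at e
      rcases ho with ho | ho <;> rw [ho] at e
      · rwa [two_smul] at e
      · rwa [neg_smul, neg_eq_zero, two_smul] at e

end Cfsg.Agent.Lie.Chev.F4Mult
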