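import Cfsg.Agent.Lib.Lie.Chev.F4Mult.Tails

/-! The tails of F4 over two elements: the formulas, the chain of conditions, and the resulting multiples. -/

set_option autoImplicit false
set_option maxRecDepth 100000

namespace Cfsg.Agent.Lie.Chev.F4Mult

/-- The commutator formulas over two elements. -/
def wtab : CommTab := [
  [[], [], [], [], [], [], [], [], [], [], [], [], [], [], [], [], [], [], [], [], [], [], [], [], [1], [], [2], [], [], [3, 6], [], [4], [5], [], [], [], [7, 17], [], [8, 22], [9, 25], [11, 30], [], [15], [16], [18, 41], [21], [23], []],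
  [[], [], [], [], [], [], [], [], [], [], [], [], [], [], [], [], [], [], [], [], [], [], [], [0], [], [2], [], [], [3, 5], [], [4], [], [6], [], [], [7, 16], [], [8, 21], [], [10, 26], [12, 31], [15], [], [17], [19, 42], [22], [], [24]],
  [[], [], [], [], [], [], [], [], [], [], [], [], [], [], [], [], [], [], [], [], [], [0], [1], [], [], [], [], [3, 4], [], [], [5], [6], [], [], [7, 15], [], [], [9, 23], [10, 24], [], [13, 32], [16], [17], [], [20, 43], [], [25], [26]],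
  [[], [], [], [], [], [], [], [], [], [], [], [], [], [], [], [], [], [], [], [], [], [], [], [], [], [], [], [], [], [], [], [], [], [7], [8], [9], [10], [11], [12], [13], [14], [18, 0], [19, 1], [20, 2], [], [27, 4], [28, 5], [29, 6]],
  [[], [], [], [], [], [], [], [], [], [], [], [], [], [], [], [], [0], [1], [], [], [3, 2], [], [], [], [], [5], [6], [], [], [], [], [], [], [8, 15], [], [11, 23], [12, 24], [], [], [14, 32], [], [21], [22], [], [27, 45], [], [30], [31]],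
  [[], [], [], [], [], [], [], [], [], [], [], [], [], [], [], [0], [], [2], [], [3, 1], [], [], [4], [], [6], [], [], [], [], [], [], [], [], [9, 16], [11, 21], [], [13, 26], [], [14, 31], [], [], [23], [], [25], [28, 46], [30], [], [32]],
  [[], [], [], [], [], [], [], [], [], [], [], [], [], [], [], [1], [2], [], [3, 0], [], [], [4], [], [5], [], [], [], [], [], [], [], [], [], [10, 17], [12, 22], [13, 25], [], [14, 30], [], [], [], [], [24], [26], [29, 47], [31], [32], []],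
  [[], [], [], [], [], [], [], [], [], [], [], [], [], [], [3], [], [], [], [], [], [], [], [], [], [], [], [], [8], [9], [10], [11, 0], [12, 1], [13, 2], [], [], [], [], [18], [19], [20], [], [], [], [], [33], [34, 15], [35, 16], [36, 17]],
  [[], [], [], [], [], [], [], [], [], [], [], [], [], [3], [], [], [], [], [], [], [7], [], [], [], [], [9, 0], [10, 1], [], [11], [12], [], [], [14, 4], [], [], [18], [19], [], [], [], [27], [], [], [33, 15], [34], [], [37, 21], [38, 22]],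
  [[], [], [], [], [], [], [], [], [], [], [], [], [3], [], [], [], [], [], [], [7], [], [], [8, 0], [], [10, 2], [], [], [11], [], [13], [], [14, 5], [], [], [18], [], [20], [], [], [], [28], [], [33, 16], [], [35], [37, 23], [], [39, 25]],
  [[], [], [], [], [], [], [], [], [], [], [], [3], [], [], [], [], [], [], [7], [], [], [8, 1], [], [9, 2], [], [], [], [12], [13], [], [14, 6], [], [], [], [19], [20], [], [], [], [], [29], [33, 17], [], [], [36], [38, 24], [39, 26], []],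
  [[], [], [], [], [], [], [], [], [], [], [3], [], [], [], [], [], [], [7, 0], [], [8], [9], [], [], [], [12, 4], [], [13, 5], [], [], [14], [], [], [], [18], [], [], [], [], [27], [28], [], [], [34, 21], [35, 23], [37], [], [], [40, 30]],
  [[], [], [], [], [], [], [], [], [], [3], [], [], [], [], [], [], [7, 1], [], [8], [], [10], [], [], [11, 4], [], [13, 6], [], [], [14], [], [], [], [], [19], [], [], [], [27], [], [29], [], [34, 22], [], [36, 24], [38], [], [40, 31], []],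
  [[], [], [], [], [], [], [], [], [3], [], [], [], [], [], [], [7, 2], [], [], [9], [10], [], [11, 5], [12, 6], [], [], [], [], [14], [], [], [], [], [], [20], [], [], [], [28], [29], [], [], [35, 25], [36, 26], [], [39], [40, 32], [], []],
  [[], [], [], [], [], [], [], [3], [], [], [], [], [], [], [], [8, 4], [9, 5], [10, 6], [11], [12], [13], [], [], [], [], [], [], [], [], [], [], [], [], [], [27], [28], [29], [], [], [], [], [37, 30], [38, 31], [39, 32], [40], [], [], []],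
  [[], [], [], [], [], [0], [1], [], [], [], [], [], [], [7, 2], [8, 4], [], [], [], [], [], [], [], [], [], [], [16], [17], [], [18, 23], [19, 24], [21], [22], [], [], [], [], [], [], [], [33, 43], [34, 45], [], [], [], [], [], [41], [42]],
  [[], [], [], [], [0], [], [2], [], [], [], [], [], [7, 1], [], [9, 5], [], [], [], [], [], [], [], [15], [], [17], [], [], [18, 21], [], [20, 26], [23], [], [25], [], [], [], [], [], [33, 42], [], [35, 46], [], [], [], [], [41], [], [43]],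
  [[], [], [], [], [1], [2], [], [], [], [], [], [7, 0], [], [], [10, 6], [], [], [], [], [], [], [15], [], [16], [], [], [], [19, 22], [20, 25], [], [], [24], [26], [], [], [], [], [33, 41], [], [], [36, 47], [], [], [], [], [42], [43], []],
  [[], [], [], [], [], [], [3, 0], [], [], [], [7], [], [8], [9], [11], [], [], [], [], [], [], [], [], [], [19, 15], [], [20, 16], [], [], [], [], [27, 21], [28, 23], [], [], [], [33], [], [34], [35], [37], [], [], [], [], [], [], [44, 41]],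
  [[], [], [], [], [], [3, 1], [], [], [], [7], [], [8], [], [10], [12], [], [], [], [], [], [], [], [], [18, 15], [], [20, 17], [], [], [], [], [27, 22], [], [29, 24], [], [], [33], [], [34], [], [36], [38], [], [], [], [], [], [44, 42], []],
  [[], [], [], [], [3, 2], [], [], [], [7], [], [], [9], [10], [], [13], [], [], [], [], [], [], [18, 16], [19, 17], [], [], [], [], [], [], [], [28, 25], [29, 26], [], [], [33], [], [], [35], [36], [], [39], [], [], [], [], [44, 43], [], []],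
  [[], [], [0], [], [], [], [4], [], [], [], [8, 1], [], [], [11, 5], [], [], [], [15], [], [], [18, 16], [], [], [], [22], [23], [], [], [], [27, 31], [], [], [30], [], [], [], [34, 42], [], [], [37, 46], [], [], [], [41], [], [], [], [45]],
  [[], [], [1], [], [], [4], [], [], [], [8, 0], [], [], [], [12, 6], [], [], [15], [], [], [], [19, 17], [], [], [21], [], [], [24], [], [27, 30], [], [], [], [31], [], [], [34, 41], [], [], [], [38, 47], [], [], [], [42], [], [], [45], []],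
  [[], [0], [], [], [], [], [5], [], [], [], [9, 2], [], [11, 4], [], [], [], [], [16], [], [18, 15], [], [], [21], [], [], [], [25], [], [], [28, 32], [], [30], [], [], [], [], [35, 43], [], [37, 45], [], [], [], [41], [], [], [], [], [46]],
  [[1], [], [], [], [], [6], [], [], [], [10, 2], [], [12, 4], [], [], [], [], [17], [], [19, 15], [], [], [22], [], [], [], [26], [], [], [29, 32], [], [31], [], [], [], [], [36, 43], [], [38, 45], [], [], [], [42], [], [], [], [], [47], []],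
  [[], [2], [], [], [5], [], [], [], [9, 0], [], [], [], [13, 6], [], [], [16], [], [], [], [20, 17], [], [23], [], [], [26], [], [], [28, 30], [], [], [], [32], [], [], [35, 41], [], [], [], [39, 47], [], [], [], [43], [], [], [46], [], []],
  [[2], [], [], [], [6], [], [], [], [10, 1], [], [], [13, 5], [], [], [], [17], [], [], [20, 16], [], [], [], [24], [25], [], [], [], [29, 31], [], [], [32], [], [], [], [36, 42], [], [], [39, 46], [], [], [], [43], [], [], [], [47], [], []],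
  [[], [], [3, 4], [], [], [], [], [8], [], [11], [12], [], [], [14], [], [], [18, 21], [19, 22], [], [], [], [], [], [], [], [28, 30], [29, 31], [], [], [], [], [], [], [34], [], [37], [38], [], [], [40], [], [], [], [44, 45], [], [], [], []],
  [[], [3, 5], [], [], [], [], [], [9], [11], [], [13], [], [14], [], [], [18, 23], [], [20, 25], [], [], [], [], [27, 30], [], [29, 32], [], [], [], [], [], [], [], [], [35], [37], [], [39], [], [40], [], [], [], [44, 46], [], [], [], [], []],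
  [[3, 6], [], [], [], [], [], [], [10], [12], [13], [], [14], [], [], [], [19, 24], [20, 26], [], [], [], [], [27, 31], [], [28, 32], [], [], [], [], [], [], [], [], [], [36], [38], [39], [], [40], [], [], [], [44, 47], [], [], [], [], [], []],
  [[], [4], [5], [], [], [], [], [11, 0], [], [], [14, 6], [], [], [], [], [21], [23], [], [], [27, 22], [28, 25], [], [], [], [31], [], [32], [], [], [], [], [], [], [37, 41], [], [], [40, 47], [], [], [], [], [], [45], [46], [], [], [], []],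
  [[4], [], [6], [], [], [], [], [12, 1], [], [14, 5], [], [], [], [], [], [22], [], [24], [27, 21], [], [29, 26], [], [], [30], [], [32], [], [], [], [], [], [], [], [38, 42], [], [40, 46], [], [], [], [], [], [45], [], [47], [], [], [], []],
  [[5], [6], [], [], [], [], [], [13, 2], [14, 4], [], [], [], [], [], [], [], [25], [26], [28, 23], [29, 24], [], [30], [31], [], [], [], [], [], [], [], [], [], [], [39, 43], [40, 45], [], [], [], [], [], [], [46], [47], [], [], [], [], []],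
  [[], [], [], [7], [8, 15], [9, 16], [10, 17], [], [], [], [], [18], [19], [20], [], [], [], [], [], [], [], [], [], [], [], [], [], [34], [35], [36], [37, 41], [38, 42], [39, 43], [], [], [], [], [], [], [], [44], [], [], [], [], [], [], []],
  [[], [], [7, 15], [8], [], [11, 21], [12, 22], [], [], [18], [19], [], [], [], [27], [], [], [], [], [], [33], [], [], [], [], [35, 41], [36, 42], [], [37], [38], [], [], [40, 45], [], [], [], [], [], [], [44], [], [], [], [], [], [], [], []],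
  [[], [7, 16], [], [9], [11, 23], [], [13, 25], [], [18], [], [20], [], [], [], [28], [], [], [], [], [33], [], [], [34, 41], [], [36, 43], [], [], [37], [], [39], [], [40, 46], [], [], [], [], [], [], [44], [], [], [], [], [], [], [], [], []],
  [[7, 17], [], [], [10], [12, 24], [13, 26], [], [], [19], [20], [], [], [], [], [29], [], [], [], [33], [], [], [34, 42], [], [35, 43], [], [], [], [38], [39], [], [40, 47], [], [], [], [], [], [], [44], [], [], [], [], [], [], [], [], [], []],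
  [[], [8, 21], [9, 23], [11], [], [], [14, 30], [18], [], [], [], [], [27], [28], [], [], [], [33, 41], [], [34], [35], [], [], [], [38, 45], [], [39, 46], [], [], [40], [], [], [], [], [], [], [44], [], [], [], [], [], [], [], [], [], [], []],
  [[8, 22], [], [10, 24], [12], [], [14, 31], [], [19], [], [], [], [27], [], [29], [], [], [33, 42], [], [34], [], [36], [], [], [37, 45], [], [39, 47], [], [], [40], [], [], [], [], [], [], [44], [], [], [], [], [], [], [], [], [], [], [], []],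
  [[9, 25], [10, 26], [], [13], [14, 32], [], [], [20], [], [], [], [28], [29], [], [], [33, 43], [], [], [35], [36], [], [37, 46], [38, 47], [], [], [], [], [40], [], [], [], [], [], [], [44], [], [], [], [], [], [], [], [], [], [], [], [], []],
  [[11, 30], [12, 31], [13, 32], [14], [], [], [], [], [27], [28], [29], [], [], [], [], [34, 45], [35, 46], [36, 47], [37], [38], [39], [], [], [], [], [], [], [], [], [], [], [], [], [44], [], [], [], [], [], [], [], [], [], [], [], [], [], []],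
  [[], [15], [16], [18, 0], [21], [23], [], [], [], [], [33, 17], [], [34, 22], [35, 25], [37, 30], [], [], [], [], [], [], [], [], [], [42], [], [43], [], [], [44, 47], [], [45], [46], [], [], [], [], [], [], [], [], [], [], [], [], [], [], []],
  [[15], [], [17], [19, 1], [22], [], [24], [], [], [33, 16], [], [34, 21], [], [36, 26], [38, 31], [], [], [], [], [], [], [], [], [41], [], [43], [], [], [44, 46], [], [45], [], [47], [], [], [], [], [], [], [], [], [], [], [], [], [], [], []],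
  [[16], [17], [], [20, 2], [], [25], [26], [], [33, 15], [], [], [35, 23], [36, 24], [], [39, 32], [], [], [], [], [], [], [41], [42], [], [], [], [], [44, 45], [], [], [46], [47], [], [], [], [], [], [], [], [], [], [], [], [], [], [], [], []],
  [[18, 41], [19, 42], [20, 43], [], [27, 45], [28, 46], [29, 47], [33], [34], [35], [36], [37], [38], [39], [40], [], [], [], [], [], [], [], [], [], [], [], [], [], [], [], [], [], [], [], [], [], [], [], [], [], [], [], [], [], [], [], [], []],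
  [[21], [22], [], [27, 4], [], [30], [31], [34, 15], [], [37, 23], [38, 24], [], [], [40, 32], [], [], [41], [42], [], [], [44, 43], [], [], [], [], [46], [47], [], [], [], [], [], [], [], [], [], [], [], [], [], [], [], [], [], [], [], [], []],
  [[23], [], [25], [28, 5], [30], [], [32], [35, 16], [37, 21], [], [39, 26], [], [40, 31], [], [], [41], [], [43], [], [44, 42], [], [], [45], [], [47], [], [], [], [], [], [], [], [], [], [], [], [], [], [], [], [], [], [], [], [], [], [], []],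
  [[], [24], [26], [29, 6], [31], [32], [], [36, 17], [38, 22], [39, 25], [], [40, 30], [], [], [], [42], [43], [], [44, 41], [], [], [45], [], [46], [], [], [], [], [], [], [], [], [], [], [], [], [], [], [], [], [], [], [], [], [], [], [], []]]

/-- The multiples, packed. -/
def kpack : ℕ := 0x88888888888888888888888888888888888888888888888888888888888888888888888888888888888888888888888888888888888888888888888888888888888888888888888888888888888888888888888888888888888888888888888888888888888888888888888888888888888888888888888888888888888888888888888888888888888888888888888888888888888888888888888888888888888888888888888888888888888888888888888888888888888888888888888888888888888888888888888888888888888888888888888888888888888888888888888888888888888888888888888888888888888888888888888888888888888888888888888888888888888888888888888888888888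888888888888888888888888888888888888888888888888888888888888888888888888888888888888888888888888888888888888888888888888888888888888888888888888888888888888888888888888888887788888888888888888888888888888888888888888888878988888888888888888888888888888888888888888888788788888888888888888888888888888888888888878888888888888888888888888888888888888888888888988888888888888888888888888888888888888888888889888888888888888888888888888888888888888888888888888887889888888988888888888888888888888888888888888878889888888788888888888888888888888888886888888889898888887888888888888888888888888888888888888898988888898888888888888888888888888888888888888988898888889888888888888888888888888888888888888788988888898888888888888888888888888888888788888888888887788888889988888888888888888888889888888888888898988887898888888888888888888888898888888888888877888878988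8888888888888888888888888888898898888888879888888888888888888888888888888888898788888888787888888888888888888888888888888888897888888888998888888888888888888888888888888879988888888888888888888888979888888888888888887889988888888888888888899888887888888888888888898898988888888888888898988888878888888888888888988899888888888888888787888888988888888888888888879888788888888889888888989888888888888888888888787887888888888878888889898888888888888888888888998878888888888788888998888888888888888888888888999888888888888997888888888888888888888888888888888988888898799888888888888889888888888888888888888788888987899888888888888898888888888888888888888988887889787888888888888788888888888888888888799877988888888888888888888888888888888888888888888788878978898888889888888888888888888888888888888988897898788888898888888888888888888888888888888988899987888888988888888888888888888888888888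

/-- The multiple of a tail. -/
def kval (v : ℕ) : ℤ := Int.subNatNat ((kpack >>> (4 * v)) % 16) 8

/-- The tail left free. -/
def zvar : ℕ := 88

/-- For each root a pair whose formula is that root. -/
def gaugePairs : List (ℕ × ℕ) := [(1, 23), (0, 24), (0, 26), (9, 12), (1, 30), (4, 25), (4, 26), (8, 20), (3, 34), (7, 28), (13, 19), (14, 18), (10, 27), (14, 20), (12, 28), (0, 42), (0, 43), (15, 26), (11, 33), (10, 34), (13, 33), (22, 23), (4, 42), (5, 41), (6, 42), (5, 43), (2, 47), (11, 38), (13, 37), (12, 39), (5, 45), (22, 32), (6, 46), (20, 34), (27, 33), (20, 37), (20, 38), (27, 35), (29, 34), (20, 40), (29, 37), (23, 42), (17, 45), (26, 41), (35, 38), (31, 41), (30, 43), (32, 42)]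

/-- Some steps. -/
def steps0 : List Step := [
  ([27, 39, 32], [0, 2, 1, 0], [1, 0, 1], 1576),
  ([34, 39, 33], [0, 2, 1, 0], [1, 0, 1], 1628),
  ([34, 43, 39], [0, 1, 0], [1, 0, 2, 1], 2108),
  ([40, 39, 33], [0, 1, 0], [1, 0, 2, 1], 1916),
  ([40, 34, 33], [0, 1, 0], [1, 0, 2, 1], 1676),
  ([40, 34, 39], [0, 1, 0, 2], [1, 0, 1], 1964),
  ([1, 43, 33], [0, 2, 1, 0], [1, 0, 1], 849),
  ([1, 27, 33], [0, 1, 0], [1, 0, 1, 2], 82),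
  ([1, 27, 32], [0, 1, 0], [1, 0, 2, 1], 315),
  ([1, 34, 43], [0, 1, 0], [1, 0, 2, 1], 850),
  ([45, 27, 33], [0, 1, 0], [1, 0, 1, 2], 1677),
  ([45, 27, 39], [0, 1, 0], [1, 0, 1, 2], 1965),
  ([45, 1, 33], [0, 2, 1, 0], [1, 0, 1], 1089),
  ([45, 1, 27], [0, 2, 1, 0], [1, 0, 1], 1083),
  ([45, 1, 34], [0, 2, 1, 0], [1, 0, 1], 1090),
  ([6, 43, 32], [0, 2, 1, 0], [1, 0, 1], 1280),
  ([6, 43, 39], [0, 2, 1, 0], [1, 0, 1], 1287),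
  ([6, 27, 39], [0, 1, 0], [1, 0, 1, 2], 328),
  ([6, 40, 43], [0, 1, 0], [1, 0, 2, 1], 1288),
  ([6, 45, 32], [0, 2, 1, 0], [1, 0, 1], 1520),
  ([22, 32, 32], [0, 2, 1, 0, 1], [1], 1519),
  ([22, 22, 32], [0], [1, 0, 2, 1, 1], 1087),
  ([6, 45, 39], [0, 2, 1, 0], [1, 0, 1], 1527),
  ([6, 45, 27], [0, 2, 1, 0], [1, 0, 1], 1327),
  ([6, 45, 40], [0, 2, 1, 0], [1, 0, 1], 1528),
  ([10, 27, 32], [0, 2, 1, 0], [1, 0, 1], 608),
  ([10, 34, 33], [0, 2, 1, 0], [1, 0, 1], 945),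
  ([10, 34, 43], [0, 2, 1, 0], [1, 0, 1], 955),
  ([10, 40, 32], [0, 2, 1, 0], [1, 0, 1], 1424),
  ([10, 40, 39], [0, 2, 1, 0], [1, 0, 1], 1431),
  ([12, 39, 39], [0, 2, 1, 0, 1], [1], 1421),
  ([12, 12, 39], [0], [1, 0, 2, 1, 1], 605),
  ([10, 40, 43], [0, 2, 1, 0], [1, 0, 1], 1435),
  ([10, 44, 33], [0, 2, 1, 0], [1, 0, 1], 1620),
  ([10, 44, 32], [0, 2, 1, 0], [1, 0, 1], 1572),
  ([10, 44, 39], [0, 2, 1, 0], [1, 0, 1], 1767),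
  ([10, 44, 43], [0, 2, 1, 0], [1, 0, 1], 1771),
  ([10, 1, 32], [0, 1, 0], [1, 0, 1, 2], 298),
  ([10, 1, 43], [0, 1, 0, 2], [1, 0, 1], 497),
  ([10, 1, 27], [0, 1, 0], [1, 0, 2, 1], 60),
  ([10, 1, 34], [0, 1, 0], [1, 0, 2, 1], 67),
  ([10, 6, 27], [0, 1, 0], [1, 0, 2, 1], 300),
  ([10, 6, 40], [0, 1, 0], [1, 0, 2, 1], 317),
  ([17, 43, 32], [0, 1, 0], [1, 0, 2, 1], 1291),
  ([41, 26, 26], [0, 2, 1, 0, 1], [1], 2107),
  ([41, 41, 26], [0], [1, 0, 2, 1, 1], 2011),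
  ([17, 34, 39], [0, 1, 0], [1, 0, 1, 2], 860),
  ([17, 44, 32], [0, 1, 0], [1, 0, 2, 1], 1292),
  ([17, 45, 33], [0, 2, 1, 0], [1, 0, 1], 1626),
  ([17, 45, 39], [0, 2, 1, 0], [1, 0, 1], 1914),
  ([17, 45, 43], [0, 2, 1, 0], [1, 0, 1], 2059),
  ([17, 45, 34], [0, 2, 1, 0], [1, 0, 1], 1674),
  ([17, 45, 44], [0, 2, 1, 0], [1, 0, 1], 2060),
  ([17, 6, 32], [0, 1, 0], [1, 0, 2, 1], 314),
  ([26, 26, 4], [0], [1, 0, 2, 1, 1], 294),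
  ([26, 4, 4], [0, 2, 1, 0, 1], [1], 198),
  ([17, 6, 43], [0, 1, 0, 2], [1, 0, 1], 842),
  ([26, 26, 15], [0], [1, 0, 2, 1, 1], 833),
  ([26, 15, 15], [0, 2, 1, 0, 1], [1], 737),
  ([17, 10, 32], [0, 1, 0], [1, 0, 2, 1], 506),
  ([17, 10, 34], [0, 1, 0, 2], [1, 0, 1], 835),
  ([17, 10, 44], [0, 1, 0, 2], [1, 0, 1], 852),
  ([26, 45, 33], [0, 2, 1, 0], [1, 0, 1], 1631),
  ([26, 45, 32], [0, 2, 1, 0], [1, 0, 1], 1583),
  ([42, 32, 32], [0, 2, 1, 0, 1], [1], 2303),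
  ([42, 42, 32], [0], [1, 0, 2, 1, 1], 2063),
  ([26, 45, 39], [0, 2, 1, 0], [1, 0, 1], 1919),
  ([26, 45, 43], [0, 2, 1, 0], [1, 0, 1], 2111),
  ([26, 45, 40], [0, 2, 1, 0], [1, 0, 1], 1967),
  ([26, 45, 44], [0, 2, 1, 0], [1, 0, 1], 2159),
  ([26, 10, 40], [0, 1, 0, 2], [1, 0, 1], 1277),
  ([26, 10, 44], [0, 1, 0, 2], [1, 0, 1], 1284),
  ([12, 34, 33], [0, 1, 0], [1, 0, 2, 1], 946),
  ([10, 34, 34], [0, 2, 1, 0, 1], [1], 931),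
  ([10, 10, 34], [0], [1, 0, 2, 1, 1], 499),
  ([13, 19, 19], [0, 2, 1, 0, 1], [1], 490),
  ([13, 13, 19], [0], [1, 0, 2, 1, 1], 493),
  ([12, 40, 39], [0, 1, 0], [1, 0, 2, 1], 1432),
  ([29, 29, 37], [0], [1, 0, 2, 1, 1], 1960),
  ([29, 37, 37], [0, 2, 1, 0, 1], [1], 1816),
  ([12, 44, 32], [0, 2, 1, 0], [1, 0, 1], 1574),
  ([12, 44, 27], [0, 2, 1, 0], [1, 0, 1], 1334),
  ([38, 38, 11], [0], [1, 0, 2, 1, 1], 1323),
  ([38, 11, 11], [0, 2, 1, 0, 1], [1], 555),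
  ([12, 44, 34], [0, 2, 1, 0], [1, 0, 1], 1670),
  ([29, 34, 34], [0, 2, 1, 0, 1], [1], 1862),
  ([29, 29, 34], [0], [1, 0, 2, 1, 1], 1430),
  ([12, 44, 40], [0, 2, 1, 0], [1, 0, 1], 1864),
  ([12, 45, 33], [0, 1, 0], [1, 0, 2, 1], 957),
  ([12, 45, 39], [0, 1, 0], [1, 0, 2, 1], 1437),
  ([12, 45, 44], [0, 1, 0], [1, 0, 2, 1], 1869),
  ([12, 45, 1], [0, 1, 0, 2], [1, 0, 1], 598),
  ([12, 10, 39], [0, 1, 0], [1, 0, 2, 1], 509),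
  ([12, 10, 34], [0, 1, 0, 2], [1, 0, 1], 595),
  ([12, 17, 32], [0, 1, 0], [1, 0, 1, 2], 602),
  ([12, 17, 39], [0, 1, 0], [1, 0, 2, 1], 845),
  ([12, 17, 44], [0, 1, 0], [1, 0, 2, 1], 854),
  ([12, 17, 45], [0, 1, 0, 2], [1, 0, 1], 618),
  ([12, 26, 33], [0, 1, 0], [1, 0, 2, 1], 938),
  ([12, 26, 44], [0, 1, 0], [1, 0, 2, 1], 1286)]

/-- Some steps. -/
def steps1 : List Step := [
  ([12, 26, 45], [0, 1, 0, 2], [1, 0, 1], 623),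
  ([19, 40, 43], [0, 2, 1, 0], [1, 0, 1], 1867),
  ([19, 44, 39], [0, 1, 0], [1, 0, 2, 1], 1772),
  ([19, 44, 40], [0, 1, 0], [1, 0, 2, 1], 1868),
  ([35, 38, 38], [0, 2, 1, 0, 1], [1], 2156),
  ([35, 35, 38], [0], [1, 0, 2, 1, 1], 1724),
  ([19, 45, 39], [0, 1, 0], [1, 0, 2, 1], 1773),
  ([19, 45, 1], [0, 1, 0, 2], [1, 0, 1], 934),
  ([19, 6, 39], [0, 1, 0], [1, 0, 2, 1], 324),
  ([19, 6, 40], [0, 1, 0], [1, 0, 2, 1], 326),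
  ([19, 6, 45], [0, 1, 0, 2], [1, 0, 1], 943),
  ([19, 10, 39], [0, 1, 0], [1, 0, 2, 1], 516),
  ([19, 10, 44], [0, 1, 0, 2], [1, 0, 1], 948),
  ([19, 26, 45], [0, 1, 0, 2], [1, 0, 1], 959),
  ([19, 12, 40], [0, 1, 0], [1, 0, 2, 1], 614),
  ([19, 12, 44], [0, 1, 0, 2], [1, 0, 1], 950),
  ([29, 1, 33], [0, 1, 0], [1, 0, 2, 1], 84),
  ([29, 1, 34], [0, 1, 0], [1, 0, 2, 1], 86),
  ([29, 45, 1], [0, 1, 0, 2], [1, 0, 1], 1085),
  ([29, 6, 45], [0, 1, 0, 2], [1, 0, 1], 1423),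
  ([29, 10, 44], [0, 1, 0, 2], [1, 0, 1], 1428),
  ([29, 17, 45], [0, 1, 0, 2], [1, 0, 1], 1434),
  ([36, 45, 1], [0, 1, 0, 2], [1, 0, 1], 1092),
  ([36, 6, 45], [0, 1, 0, 2], [1, 0, 1], 1524),
  ([36, 17, 45], [0, 1, 0, 2], [1, 0, 1], 1770),
  ([36, 12, 44], [0, 1, 0, 2], [1, 0, 1], 1766),
  ([38, 38, 20], [0], [1, 0, 2, 1, 1], 1764),
  ([38, 20, 20], [0, 2, 1, 0, 1], [1], 996),
  ([22, 40, 33], [0, 1, 0], [1, 0, 1, 2], 1100),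
  ([22, 40, 43], [0, 1, 0], [1, 0, 2, 1], 1962),
  ([22, 44, 32], [0, 1, 0], [1, 0, 2, 1], 1532),
  ([22, 45, 32], [0, 1, 0], [1, 0, 2, 1], 1533),
  ([31, 31, 41], [0], [1, 0, 2, 1, 1], 2205),
  ([31, 41, 41], [0, 2, 1, 0, 1], [1], 2013),
  ([22, 45, 43], [0, 1, 0], [1, 0, 2, 1], 2061),
  ([17, 45, 45], [0, 2, 1, 0, 1], [1], 2058),
  ([17, 17, 45], [0], [1, 0, 2, 1, 1], 858),
  ([22, 6, 32], [0, 1, 0], [1, 0, 2, 1], 319),
  ([22, 10, 32], [0, 1, 0], [1, 0, 2, 1], 511),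
  ([22, 10, 43], [0, 1, 0], [1, 0, 2, 1], 522),
  ([22, 17, 45], [0, 1, 0, 2], [1, 0, 1], 1098),
  ([42, 42, 4], [0], [1, 0, 2, 1, 1], 1078),
  ([42, 4, 4], [0, 2, 1, 0, 1], [1], 214),
  ([22, 26, 33], [0, 2, 1, 0], [1, 0, 1], 1185),
  ([22, 26, 40], [0, 2, 1, 0], [1, 0, 1], 1192),
  ([22, 26, 44], [0, 2, 1, 0], [1, 0, 1], 1196),
  ([22, 26, 1], [0, 2, 1, 0], [1, 0, 1], 72),
  ([24, 24, 0], [0], [1, 0, 2, 1, 1], 49),
  ([24, 0, 0], [0, 2, 1, 0, 1], [1], 1),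
  ([23, 1, 1], [0, 2, 1, 0, 1], [1], 0),
  ([23, 23, 1], [0], [1, 0, 2, 1, 1], 23),
  ([22, 26, 6], [0, 2, 1, 0], [1, 0, 1], 312),
  ([42, 6, 6], [0, 2, 1, 0, 1], [1], 1176),
  ([42, 42, 6], [0], [1, 0, 2, 1, 1], 1194),
  ([22, 26, 10], [0, 2, 1, 0], [1, 0, 1], 504),
  ([22, 26, 17], [0, 2, 1, 0], [1, 0, 1], 840),
  ([22, 12, 32], [0, 1, 0], [1, 0, 2, 1], 607),
  ([22, 12, 44], [0, 1, 0, 2], [1, 0, 1], 1094),
  ([22, 12, 26], [0, 1, 0], [1, 0, 2, 1], 600),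
  ([22, 19, 43], [0, 1, 0], [1, 0, 2, 1], 954),
  ([22, 19, 26], [0, 1, 0], [1, 0, 2, 1], 936),
  ([22, 29, 26], [0, 1, 0], [1, 0, 2, 1], 1181),
  ([22, 36, 26], [0, 1, 0], [1, 0, 2, 1], 1188),
  ([31, 34, 43], [0, 1, 0], [1, 0, 2, 1], 1679),
  ([31, 45, 43], [0, 1, 0], [1, 0, 2, 1], 2207),
  ([31, 10, 43], [0, 1, 0], [1, 0, 2, 1], 527),
  ([31, 17, 39], [0, 2, 1, 0], [1, 0, 1], 1191),
  ([31, 17, 34], [0, 2, 1, 0], [1, 0, 1], 1186),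
  ([31, 26, 43], [0, 1, 0], [1, 0, 2, 1], 1295),
  ([2, 47, 47], [0, 2, 1, 0, 1], [1], 1274),
  ([2, 2, 47], [0], [1, 0, 2, 1, 1], 122),
  ([26, 26, 0], [0], [1, 0, 2, 1, 1], 98),
  ([26, 0, 0], [0, 2, 1, 0, 1], [1], 2),
  ([31, 26, 45], [0, 1, 0, 2], [1, 0, 1], 1535),
  ([31, 26, 17], [0, 1, 0], [1, 0, 2, 1], 1178),
  ([31, 12, 44], [0, 1, 0, 2], [1, 0, 1], 1526),
  ([31, 29, 43], [0, 1, 0], [1, 0, 2, 1], 1439),
  ([31, 36, 43], [0, 1, 0], [1, 0, 2, 1], 1775),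
  ([31, 22, 17], [0, 1, 0], [1, 0, 2, 1], 1080),
  ([31, 22, 26], [0, 1, 0, 2], [1, 0, 1], 1183),
  ([38, 17, 45], [0, 1, 0, 2], [1, 0, 1], 1866),
  ([38, 26, 45], [0, 1, 0, 2], [1, 0, 1], 1871),
  ([42, 27, 32], [0, 1, 0], [1, 0, 2, 1], 1343),
  ([42, 6, 27], [0, 2, 1, 0], [1, 0, 1], 1179),
  ([42, 38, 6], [0, 1, 0], [1, 0, 2, 1], 1190),
  ([47, 22, 26], [0, 1, 0, 2], [1, 0, 1], 1199),
  ([11, 33, 0], [0, 2, 1, 0], [1, 0, 1], 18),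
  ([18, 11, 40], [0, 1, 0], [1, 0, 2, 1], 565),
  ([18, 44, 40], [0, 1, 0], [1, 0, 2, 1], 1820),
  ([18, 44, 11], [0, 1, 0, 2], [1, 0, 1], 901),
  ([30, 44, 11], [0, 1, 0, 2], [1, 0, 1], 1477),
  ([24, 33, 0], [0, 1, 0], [1, 0, 2, 1], 81),
  ([1, 11, 33], [0, 1, 0], [1, 0, 1, 2], 66),
  ([1, 30, 0], [0, 2, 1, 0], [1, 0, 1], 4),
  ([1, 30, 11], [0, 2, 1, 0], [1, 0, 1], 203),
  ([1, 30, 18], [0, 2, 1, 0], [1, 0, 1], 210),
  ([41, 40, 33], [0, 1, 0], [1, 0, 1, 2], 2012),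
  ([41, 11, 33], [0, 1, 0], [1, 0, 1, 2], 905),
  ([41, 44, 11], [0, 1, 0], [1, 0, 1, 2], 1817),
  ([41, 1, 0], [0, 2, 1, 0], [1, 0, 1], 15)]

/-- Some steps. -/
def steps2 : List Step := [
  ([42, 0, 0], [0, 2, 1, 0, 1], [1], 735),
  ([42, 42, 0], [0], [1, 0, 2, 1, 1], 762),
  ([41, 1, 33], [0, 2, 1, 0], [1, 0, 1], 753),
  ([41, 1, 11], [0, 2, 1, 0], [1, 0, 1], 543),
  ([41, 1, 18], [0, 2, 1, 0], [1, 0, 1], 738),
  ([12, 33, 0], [0, 2, 1, 0], [1, 0, 1], 19),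
  ([12, 18, 0], [0, 2, 1, 0], [1, 0, 1], 8),
  ([12, 18, 11], [0, 2, 1, 0], [1, 0, 1], 395),
  ([12, 30, 44], [0, 1, 0], [1, 0, 2, 1], 1478),
  ([12, 30, 18], [0, 1, 0], [1, 0, 2, 1], 414),
  ([12, 1, 18], [0, 1, 0], [1, 0, 2, 1], 56),
  ([12, 37, 0], [0, 2, 1, 0], [1, 0, 1], 27),
  ([12, 37, 40], [0, 2, 1, 0], [1, 0, 1], 1336),
  ([12, 37, 30], [0, 2, 1, 0], [1, 0, 1], 1326),
  ([19, 18, 11], [0, 1, 0], [1, 0, 2, 1], 402),
  ([19, 37, 0], [0, 2, 1, 0], [1, 0, 1], 34),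
  ([19, 37, 33], [0, 2, 1, 0], [1, 0, 1], 1618),
  ([27, 33, 33], [0, 2, 1, 0, 1], [1], 1666),
  ([27, 27, 33], [0], [1, 0, 2, 1, 1], 1330),
  ([20, 34, 34], [0, 2, 1, 0, 1], [1], 1617),
  ([20, 20, 34], [0], [1, 0, 2, 1, 1], 993),
  ([13, 33, 33], [0, 2, 1, 0, 1], [1], 980),
  ([13, 13, 33], [0], [1, 0, 2, 1, 1], 644),
  ([20, 20, 14], [0], [1, 0, 2, 1, 1], 637),
  ([20, 14, 14], [0, 2, 1, 0, 1], [1], 638),
  ([19, 37, 18], [0, 2, 1, 0], [1, 0, 1], 898),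
  ([19, 41, 40], [0, 1, 0], [1, 0, 2, 1], 1865),
  ([19, 41, 11], [0, 1, 0], [1, 0, 2, 1], 425),
  ([19, 41, 37], [0, 1, 0], [1, 0, 2, 1], 1673),
  ([19, 12, 11], [0, 1, 0], [1, 0, 2, 1], 396),
  ([19, 12, 18], [0, 1, 0, 2], [1, 0, 1], 403),
  ([31, 44, 11], [0, 1, 0], [1, 0, 1, 2], 1525),
  ([31, 30, 0], [0, 1, 0], [1, 0, 2, 1], 222),
  ([1, 30, 30], [0, 2, 1, 0, 1], [1], 196),
  ([1, 1, 30], [0], [1, 0, 2, 1, 1], 52),
  ([31, 1, 30], [0, 1, 0, 2], [1, 0, 1], 223),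
  ([31, 37, 0], [0, 1, 0], [1, 0, 2, 1], 229),
  ([31, 41, 11], [0, 2, 1, 0], [1, 0, 1], 573),
  ([31, 41, 30], [0, 2, 1, 0], [1, 0, 1], 1485),
  ([45, 45, 5], [0], [1, 0, 2, 1, 1], 1470),
  ([45, 5, 5], [0, 2, 1, 0, 1], [1], 270),
  ([31, 41, 37], [0, 2, 1, 0], [1, 0, 1], 1821),
  ([31, 12, 0], [0, 1, 0], [1, 0, 2, 1], 204),
  ([31, 19, 0], [0, 1, 0], [1, 0, 2, 1], 211),
  ([31, 19, 11], [0, 1, 0, 2], [1, 0, 1], 415),
  ([31, 19, 37], [0, 1, 0, 2], [1, 0, 1], 1522),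
  ([4, 41, 0], [0, 2, 1, 0], [1, 0, 1], 21),
  ([4, 41, 40], [0, 2, 1, 0], [1, 0, 1], 1048),
  ([4, 41, 11], [0, 2, 1, 0], [1, 0, 1], 549),
  ([4, 41, 18], [0, 2, 1, 0], [1, 0, 1], 885),
  ([4, 41, 30], [0, 2, 1, 0], [1, 0, 1], 1038),
  ([4, 41, 37], [0, 2, 1, 0], [1, 0, 1], 1045),
  ([4, 12, 18], [0, 1, 0, 2], [1, 0, 1], 200),
  ([4, 12, 37], [0, 1, 0, 2], [1, 0, 1], 219),
  ([4, 19, 40], [0, 1, 0, 2], [1, 0, 1], 230),
  ([4, 19, 37], [0, 1, 0, 2], [1, 0, 1], 226),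
  ([4, 19, 41], [0, 1, 0], [1, 0, 2, 1], 933),
  ([38, 30, 18], [0, 1, 0], [1, 0, 2, 1], 1474),
  ([38, 1, 11], [0, 1, 0], [1, 0, 2, 1], 75),
  ([38, 37, 11], [0, 1, 0], [1, 0, 2, 1], 1333),
  ([27, 27, 35], [0], [1, 0, 2, 1, 1], 1813),
  ([27, 35, 35], [0, 2, 1, 0, 1], [1], 1717),
  ([20, 37, 37], [0, 2, 1, 0, 1], [1], 1715),
  ([20, 20, 37], [0], [1, 0, 2, 1, 1], 995),
  ([38, 37, 18], [0, 1, 0], [1, 0, 2, 1], 1669),
  ([38, 41, 11], [0, 1, 0], [1, 0, 2, 1], 1337),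
  ([38, 41, 1], [0, 1, 0, 2], [1, 0, 1], 758),
  ([38, 12, 11], [0, 1, 0], [1, 0, 2, 1], 603),
  ([10, 27, 27], [0, 2, 1, 0, 1], [1], 588),
  ([10, 10, 27], [0], [1, 0, 2, 1, 1], 492),
  ([38, 4, 41], [0, 1, 0, 2], [1, 0, 1], 1046),
  ([8, 41, 24], [0, 1, 0, 2], [1, 0, 1], 426),
  ([8, 41, 1], [0, 1, 0, 2], [1, 0, 1], 399),
  ([8, 12, 37], [0, 1, 0, 2], [1, 0, 1], 411),
  ([8, 19, 37], [0, 1, 0, 2], [1, 0, 1], 418),
  ([34, 34, 3], [0], [1, 0, 2, 1, 1], 392),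
  ([34, 3, 3], [0, 2, 1, 0, 1], [1], 152),
  ([8, 31, 41], [0, 1, 0, 2], [1, 0, 1], 429),
  ([42, 18, 40], [0, 1, 0], [1, 0, 1, 2], 1818),
  ([42, 30, 18], [0, 2, 1, 0], [1, 0, 1], 909),
  ([42, 1, 0], [0, 1, 0], [1, 0, 2, 1], 63),
  ([42, 37, 0], [0, 1, 0], [1, 0, 2, 1], 757),
  ([42, 41, 0], [0, 1, 0], [1, 0, 2, 1], 761),
  ([42, 12, 0], [0, 1, 0], [1, 0, 2, 1], 591),
  ([42, 12, 30], [0, 1, 0], [1, 0, 2, 1], 621),
  ([42, 12, 37], [0, 1, 0, 2], [1, 0, 1], 1338),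
  ([42, 19, 0], [0, 1, 0], [1, 0, 2, 1], 739),
  ([42, 4, 40], [0, 2, 1, 0], [1, 0, 1], 1096),
  ([42, 4, 18], [0, 2, 1, 0], [1, 0, 1], 886),
  ([42, 4, 1], [0, 2, 1, 0], [1, 0, 1], 70),
  ([42, 4, 37], [0, 2, 1, 0], [1, 0, 1], 1093),
  ([42, 8, 4], [0, 1, 0], [1, 0, 2, 1], 406),
  ([15, 30, 44], [0, 2, 1, 0], [1, 0, 1], 1052),
  ([15, 41, 30], [0, 1, 0], [1, 0, 2, 1], 1049),
  ([15, 12, 30], [0, 1, 0], [1, 0, 2, 1], 597),
  ([15, 12, 37], [0, 1, 0, 2], [1, 0, 1], 747),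
  ([15, 19, 37], [0, 1, 0, 2], [1, 0, 1], 754),
  ([15, 31, 11], [0, 2, 1, 0], [1, 0, 1], 550),
  ([15, 4, 30], [0, 1, 0], [1, 0, 2, 1], 213),
  ([15, 4, 41], [0, 1, 0, 2], [1, 0, 1], 741)]

/-- Some steps. -/
def steps3 : List Step := [
  ([15, 8, 30], [0, 1, 0], [1, 0, 2, 1], 405),
  ([15, 42, 4], [0, 1, 0, 2], [1, 0, 1], 742),
  ([27, 31, 41], [0, 1, 0, 2], [1, 0, 1], 1341),
  ([34, 4, 41], [0, 1, 0, 2], [1, 0, 1], 1042),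
  ([45, 33, 0], [0, 1, 0], [1, 0, 2, 1], 1041),
  ([45, 4, 41], [0, 1, 0, 2], [1, 0, 1], 1053),
  ([45, 42, 4], [0, 1, 0, 2], [1, 0, 1], 1101),
  ([45, 27, 0], [0, 1, 0], [1, 0, 2, 1], 1035),
  ([21, 42, 4], [0, 1, 0, 2], [1, 0, 1], 1030),
  ([22, 22, 23], [0], [1, 0, 2, 1, 1], 1029),
  ([22, 23, 23], [0, 2, 1, 0, 1], [1], 1031),
  ([39, 2, 11], [0, 1, 0], [1, 0, 2, 1], 124),
  ([39, 2, 42], [0, 1, 0], [1, 0, 1, 2], 855),
  ([21, 2, 11], [0, 2, 1, 0], [1, 0, 1], 11),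
  ([7, 2, 42], [0, 1, 0], [1, 0, 1, 2], 353),
  ([7, 39, 42], [0, 2, 1, 0], [1, 0, 1], 1002),
  ([7, 39, 2], [0, 2, 1, 0], [1, 0, 1], 116),
  ([7, 39, 17], [0, 2, 1, 0], [1, 0, 1], 836),
  ([28, 21, 2], [0, 1, 0, 2], [1, 0, 1], 28),
  ([28, 7, 11], [0, 2, 1, 0], [1, 0, 1], 443),
  ([28, 7, 2], [0, 2, 1, 0], [1, 0, 1], 105),
  ([28, 7, 21], [0, 2, 1, 0], [1, 0, 1], 453),
  ([0, 7, 42], [0, 1, 0], [1, 0, 2, 1], 351),
  ([0, 28, 34], [0, 1, 0, 2], [1, 0, 1], 37),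
  ([0, 28, 7], [0, 1, 0, 2], [1, 0, 1], 9),
  ([44, 21, 17], [0, 1, 0, 2], [1, 0, 1], 764),
  ([44, 28, 11], [0, 1, 0], [1, 0, 2, 1], 1381),
  ([13, 37, 37], [0, 2, 1, 0, 1], [1], 1372),
  ([13, 13, 37], [0], [1, 0, 2, 1, 1], 652),
  ([37, 7, 11], [0, 2, 1, 0], [1, 0, 1], 546),
  ([11, 11, 33], [0], [1, 0, 2, 1, 1], 882),
  ([11, 33, 33], [0, 2, 1, 0, 1], [1], 897),
  ([14, 18, 18], [0, 2, 1, 0, 1], [1], 539),
  ([14, 14, 18], [0], [1, 0, 2, 1, 1], 542),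
  ([37, 7, 42], [0, 2, 1, 0], [1, 0, 1], 906),
  ([20, 7, 11], [0, 1, 0], [1, 0, 2, 1], 345),
  ([28, 7, 7], [0, 2, 1, 0, 1], [1], 441),
  ([28, 28, 7], [0], [1, 0, 2, 1, 1], 460),
  ([20, 7, 34], [0, 1, 0], [1, 0, 2, 1], 369),
  ([20, 28, 7], [0, 1, 0, 2], [1, 0, 1], 452),
  ([20, 0, 42], [0, 1, 0], [1, 0, 1, 2], 740),
  ([20, 0, 34], [0, 1, 0], [1, 0, 2, 1], 33),
  ([20, 15, 11], [0, 1, 0], [1, 0, 2, 1], 447),
  ([20, 37, 42], [0, 2, 1, 0], [1, 0, 1], 1722),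
  ([20, 37, 39], [0, 2, 1, 0], [1, 0, 1], 1719),
  ([20, 37, 28], [0, 2, 1, 0], [1, 0, 1], 1379),
  ([20, 37, 0], [0, 2, 1, 0], [1, 0, 1], 35),
  ([20, 37, 15], [0, 2, 1, 0], [1, 0, 1], 755),
  ([9, 17, 34], [0, 1, 0], [1, 0, 2, 1], 834),
  ([9, 7, 34], [0, 1, 0], [1, 0, 2, 1], 354),
  ([9, 44, 17], [0, 2, 1, 0], [1, 0, 1], 851),
  ([9, 44, 21], [0, 2, 1, 0], [1, 0, 1], 1043),
  ([9, 37, 7], [0, 1, 0, 2], [1, 0, 1], 450),
  ([9, 20, 37], [0, 1, 0, 2], [1, 0, 1], 467),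
  ([33, 2, 11], [0, 1, 0], [1, 0, 2, 1], 114),
  ([33, 28, 2], [0, 2, 1, 0], [1, 0, 1], 131),
  ([33, 20, 37], [0, 1, 0, 2], [1, 0, 1], 1619),
  ([46, 2, 11], [0, 2, 1, 0], [1, 0, 1], 553),
  ([46, 17, 34], [0, 2, 1, 0], [1, 0, 1], 1675),
  ([46, 39, 11], [0, 1, 0], [1, 0, 1, 2], 1390),
  ([46, 39, 2], [0, 1, 0], [1, 0, 2, 1], 1239),
  ([46, 39, 34], [0, 1, 0], [1, 0, 1, 2], 2158),
  ([46, 28, 2], [0, 1, 0], [1, 0, 2, 1], 1228),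
  ([46, 0, 11], [0, 2, 1, 0], [1, 0, 1], 551),
  ([46, 0, 34], [0, 2, 1, 0], [1, 0, 1], 1138),
  ([46, 0, 28], [0, 2, 1, 0], [1, 0, 1], 1132),
  ([46, 15, 11], [0, 2, 1, 0], [1, 0, 1], 569),
  ([46, 15, 42], [0, 2, 1, 0], [1, 0, 1], 2010),
  ([23, 42, 42], [0, 2, 1, 0, 1], [1], 2009),
  ([23, 23, 42], [0], [1, 0, 2, 1, 1], 1145),
  ([41, 41, 5], [0], [1, 0, 2, 1, 1], 1127),
  ([41, 5, 5], [0, 2, 1, 0, 1], [1], 263),
  ([46, 37, 0], [0, 1, 0], [1, 0, 2, 1], 1141),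
  ([46, 20, 11], [0, 1, 0], [1, 0, 1, 2], 478),
  ([46, 20, 2], [0, 1, 0], [1, 0, 2, 1], 985),
  ([46, 20, 34], [0, 1, 0], [1, 0, 1, 2], 1630),
  ([46, 20, 17], [0, 1, 0], [1, 0, 2, 1], 1003),
  ([46, 20, 0], [0, 1, 0], [1, 0, 2, 1], 983),
  ([46, 20, 15], [0, 1, 0], [1, 0, 2, 1], 1001),
  ([46, 20, 37], [0, 1, 0, 2], [1, 0, 1], 1726),
  ([46, 9, 2], [0, 1, 0], [1, 0, 2, 1], 457),
  ([46, 9, 34], [0, 1, 0, 2], [1, 0, 1], 910),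
  ([46, 9, 17], [0, 1, 0], [1, 0, 2, 1], 475),
  ([46, 9, 0], [0, 1, 0], [1, 0, 2, 1], 455),
  ([46, 9, 15], [0, 1, 0], [1, 0, 2, 1], 473),
  ([46, 33, 2], [0, 1, 0], [1, 0, 2, 1], 1233),
  ([46, 33, 17], [0, 1, 0], [1, 0, 2, 1], 1627),
  ([46, 33, 0], [0, 1, 0], [1, 0, 2, 1], 1137),
  ([46, 33, 15], [0, 1, 0], [1, 0, 2, 1], 1625),
  ([18, 20, 37], [0, 1, 0, 2], [1, 0, 1], 899),
  ([18, 46, 2], [0, 1, 0, 2], [1, 0, 1], 889),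
  ([18, 46, 17], [0, 1, 0, 2], [1, 0, 1], 907),
  ([25, 17, 42], [0, 1, 0], [1, 0, 2, 1], 859),
  ([25, 7, 42], [0, 1, 0], [1, 0, 2, 1], 379),
  ([25, 7, 21], [0, 1, 0], [1, 0, 2, 1], 359),
  ([25, 44, 11], [0, 1, 0], [1, 0, 1, 2], 1237),
  ([25, 44, 21], [0, 1, 0], [1, 0, 2, 1], 1148),
  ([25, 15, 11], [0, 2, 1, 0], [1, 0, 1], 544),
  ([25, 15, 2], [0, 2, 1, 0], [1, 0, 1], 112),
  ([25, 15, 17], [0, 2, 1, 0], [1, 0, 1], 785)]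

/-- Some steps. -/
def steps4 : List Step := [
  ([25, 15, 7], [0, 2, 1, 0], [1, 0, 1], 352),
  ([25, 15, 0], [0, 2, 1, 0], [1, 0, 1], 16),
  ([43, 0, 0], [0, 2, 1, 0, 1], [1], 784),
  ([43, 43, 0], [0], [1, 0, 2, 1, 1], 811),
  ([25, 15, 44], [0, 2, 1, 0], [1, 0, 1], 812),
  ([25, 37, 42], [0, 1, 0], [1, 0, 2, 1], 1819),
  ([25, 37, 15], [0, 1, 0], [1, 0, 2, 1], 805),
  ([25, 20, 15], [0, 1, 0], [1, 0, 2, 1], 788),
  ([25, 20, 37], [0, 1, 0, 2], [1, 0, 1], 1235),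
  ([25, 9, 15], [0, 1, 0], [1, 0, 2, 1], 448),
  ([25, 33, 15], [0, 1, 0], [1, 0, 2, 1], 801),
  ([25, 46, 42], [0, 1, 0], [1, 0, 2, 1], 2110),
  ([30, 43, 43], [0, 2, 1, 0, 1], [1], 2254),
  ([30, 30, 43], [0], [1, 0, 2, 1, 1], 1486),
  ([25, 46, 17], [0, 1, 0, 2], [1, 0, 1], 1243),
  ([43, 43, 5], [0], [1, 0, 2, 1, 1], 1225),
  ([43, 5, 5], [0, 2, 1, 0, 1], [1], 265),
  ([25, 25, 4], [0], [1, 0, 2, 1, 1], 245),
  ([25, 4, 4], [0, 2, 1, 0, 1], [1], 197),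
  ([25, 46, 21], [0, 1, 0], [1, 0, 2, 1], 1150),
  ([25, 46, 0], [0, 1, 0, 2], [1, 0, 1], 1129),
  ([25, 18, 21], [0, 1, 0], [1, 0, 2, 1], 887),
  ([25, 18, 15], [0, 1, 0], [1, 0, 2, 1], 786),
  ([43, 7, 21], [0, 1, 0], [1, 0, 2, 1], 377),
  ([43, 28, 21], [0, 1, 0], [1, 0, 2, 1], 1385),
  ([43, 0, 34], [0, 2, 1, 0], [1, 0, 1], 802),
  ([43, 0, 28], [0, 2, 1, 0], [1, 0, 1], 796),
  ([43, 15, 0], [0, 1, 0], [1, 0, 2, 1], 736),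
  ([43, 20, 37], [0, 1, 0, 2], [1, 0, 1], 1723),
  ([43, 46, 21], [0, 1, 0], [1, 0, 2, 1], 2014),
  ([43, 25, 0], [0, 1, 0], [1, 0, 2, 1], 793),
  ([35, 46, 0], [0, 1, 0, 2], [1, 0, 1], 1139),
  ([35, 46, 15], [0, 1, 0, 2], [1, 0, 1], 1721),
  ([23, 39, 42], [0, 1, 0], [1, 0, 2, 1], 1913),
  ([23, 39, 17], [0, 1, 0], [1, 0, 2, 1], 807),
  ([23, 25, 15], [0, 1, 0, 2], [1, 0, 1], 791),
  ([23, 35, 17], [0, 1, 0], [1, 0, 2, 1], 803),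
  ([41, 25, 15], [0, 1, 0, 2], [1, 0, 1], 809),
  ([47, 5, 28], [0, 2, 1, 0], [1, 0, 1], 1376),
  ([24, 5, 1], [0, 2, 1, 0], [1, 0, 1], 54),
  ([24, 5, 3], [0, 2, 1, 0], [1, 0, 1], 150),
  ([32, 5, 1], [0, 1, 0], [1, 0, 2, 1], 246),
  ([32, 24, 5], [0, 1, 0, 2], [1, 0, 1], 320),
  ([6, 6, 46], [0], [1, 0, 2, 1, 1], 1568),
  ([6, 46, 46], [0, 2, 1, 0, 1], [1], 1582),
  ([33, 3, 1], [0, 2, 1, 0], [1, 0, 1], 55),
  ([33, 47, 28], [0, 1, 0], [1, 0, 2, 1], 1727),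
  ([33, 24, 3], [0, 1, 0], [1, 0, 2, 1], 360),
  ([35, 5, 3], [0, 1, 0], [1, 0, 2, 1], 249),
  ([35, 47, 5], [0, 1, 0], [1, 0, 1, 2], 1571),
  ([35, 29, 28], [0, 2, 1, 0], [1, 0, 1], 1383),
  ([35, 29, 5], [0, 2, 1, 0], [1, 0, 1], 279),
  ([35, 32, 3], [0, 1, 0], [1, 0, 2, 1], 464),
  ([35, 32, 29], [0, 1, 0], [1, 0, 2, 1], 1575),
  ([7, 3, 28], [0, 1, 0], [1, 0, 2, 1], 153),
  ([12, 9, 9], [0, 2, 1, 0, 1], [1], 147),
  ([12, 12, 9], [0], [1, 0, 2, 1, 1], 156),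
  ([7, 24, 5], [0, 1, 0], [1, 0, 1, 2], 295),
  ([7, 29, 1], [0, 2, 1, 0], [1, 0, 1], 58),
  ([7, 29, 3], [0, 2, 1, 0], [1, 0, 1], 154),
  ([7, 29, 5], [0, 2, 1, 0], [1, 0, 1], 250),
  ([7, 6, 28], [0, 1, 0], [1, 0, 2, 1], 297),
  ([9, 29, 1], [0, 2, 1, 0], [1, 0, 1], 61),
  ([9, 29, 3], [0, 2, 1, 0], [1, 0, 1], 157),
  ([9, 29, 5], [0, 2, 1, 0], [1, 0, 1], 253),
  ([9, 32, 29], [0, 1, 0], [1, 0, 2, 1], 656),
  ([9, 6, 29], [0, 1, 0], [1, 0, 2, 1], 301),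
  ([36, 32, 3], [0, 1, 0], [1, 0, 2, 1], 512),
  ([36, 6, 28], [0, 1, 0], [1, 0, 2, 1], 327),
  ([36, 7, 3], [0, 1, 0], [1, 0, 2, 1], 346),
  ([36, 9, 1], [0, 2, 1, 0], [1, 0, 1], 68),
  ([36, 9, 32], [0, 2, 1, 0], [1, 0, 1], 992),
  ([36, 9, 6], [0, 2, 1, 0], [1, 0, 1], 308),
  ([36, 9, 7], [0, 2, 1, 0], [1, 0, 1], 356),
  ([20, 20, 8], [0], [1, 0, 2, 1, 1], 343),
  ([20, 8, 8], [0, 2, 1, 0, 1], [1], 344),
  ([39, 24, 3], [0, 1, 0], [1, 0, 2, 1], 648),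
  ([39, 29, 3], [0, 1, 0], [1, 0, 2, 1], 653),
  ([39, 7, 5], [0, 2, 1, 0], [1, 0, 1], 260),
  ([39, 7, 24], [0, 2, 1, 0], [1, 0, 1], 984),
  ([39, 9, 3], [0, 1, 0], [1, 0, 2, 1], 445),
  ([39, 9, 29], [0, 1, 0, 2], [1, 0, 1], 663),
  ([39, 36, 9], [0, 1, 0, 2], [1, 0, 1], 999),
  ([20, 20, 40], [0], [1, 0, 2, 1, 1], 1911),
  ([20, 40, 40], [0, 2, 1, 0, 1], [1], 1912),
  ([10, 47, 28], [0, 1, 0], [1, 0, 2, 1], 671),
  ([10, 35, 47], [0, 2, 1, 0], [1, 0, 1], 1007),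
  ([10, 36, 9], [0, 1, 0, 2], [1, 0, 1], 500),
  ([16, 47, 28], [0, 2, 1, 0], [1, 0, 1], 1387),
  ([16, 24, 1], [0, 2, 1, 0], [1, 0, 1], 65),
  ([16, 24, 3], [0, 2, 1, 0], [1, 0, 1], 161),
  ([16, 32, 3], [0, 2, 1, 0], [1, 0, 1], 169),
  ([16, 6, 1], [0, 2, 1, 0], [1, 0, 1], 50),
  ([16, 6, 3], [0, 2, 1, 0], [1, 0, 1], 99),
  ([16, 6, 5], [0, 2, 1, 0], [1, 0, 1], 101),
  ([16, 7, 6], [0, 1, 0], [1, 0, 2, 1], 103),
  ([16, 36, 3], [0, 1, 0], [1, 0, 1, 2], 496),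
  ([16, 36, 32], [0, 1, 0], [1, 0, 2, 1], 1236),
  ([16, 36, 6], [0, 1, 0], [1, 0, 2, 1], 132),
  ([16, 39, 3], [0, 1, 0], [1, 0, 1, 2], 640)]

/-- Some steps. -/
def steps5 : List Step := [
  ([16, 39, 6], [0, 1, 0], [1, 0, 2, 1], 135),
  ([16, 10, 47], [0, 1, 0], [1, 0, 2, 1], 523),
  ([16, 10, 32], [0, 1, 0], [1, 0, 2, 1], 505),
  ([16, 10, 6], [0, 1, 0], [1, 0, 2, 1], 106),
  ([16, 13, 47], [0, 1, 0], [1, 0, 2, 1], 667),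
  ([16, 13, 24], [0, 1, 0], [1, 0, 2, 1], 641),
  ([16, 13, 32], [0, 1, 0], [1, 0, 2, 1], 649),
  ([16, 13, 6], [0, 1, 0], [1, 0, 2, 1], 109),
  ([43, 29, 5], [0, 1, 0], [1, 0, 2, 1], 1229),
  ([43, 32, 5], [0, 1, 0], [1, 0, 2, 1], 1232),
  ([43, 6, 28], [0, 2, 1, 0], [1, 0, 1], 1276),
  ([43, 7, 5], [0, 1, 0], [1, 0, 2, 1], 361),
  ([43, 7, 6], [0, 1, 0], [1, 0, 2, 1], 362),
  ([43, 9, 1], [0, 1, 0], [1, 0, 2, 1], 449),
  ([43, 9, 6], [0, 1, 0], [1, 0, 2, 1], 458),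
  ([43, 13, 6], [0, 1, 0], [1, 0, 2, 1], 650),
  ([17, 29, 5], [0, 1, 0], [1, 0, 2, 1], 125),
  ([17, 32, 3], [0, 2, 1, 0], [1, 0, 1], 170),
  ([17, 6, 5], [0, 1, 0], [1, 0, 2, 1], 102),
  ([17, 35, 32], [0, 1, 0], [1, 0, 2, 1], 1283),
  ([17, 16, 6], [0, 1, 0, 2], [1, 0, 1], 113),
  ([25, 33, 1], [0, 1, 0], [1, 0, 2, 1], 129),
  ([25, 33, 24], [0, 1, 0], [1, 0, 2, 1], 1281),
  ([25, 16, 6], [0, 1, 0, 2], [1, 0, 1], 121),
  ([25, 43, 6], [0, 1, 0, 2], [1, 0, 1], 1226),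
  ([25, 20, 24], [0, 1, 0], [1, 0, 2, 1], 986),
  ([5, 27, 39], [0, 1, 0], [1, 0, 1, 2], 280),
  ([5, 22, 40], [0, 2, 1, 0], [1, 0, 1], 232),
  ([47, 5, 27], [0, 2, 1, 0], [1, 0, 1], 1328),
  ([3, 40, 27], [0, 2, 1, 0], [1, 0, 1], 699),
  ([3, 22, 40], [0, 1, 0], [1, 0, 2, 1], 694),
  ([3, 22, 36], [0, 1, 0], [1, 0, 2, 1], 502),
  ([3, 5, 40], [0, 1, 0], [1, 0, 2, 1], 254),
  ([3, 5, 22], [0, 1, 0, 2], [1, 0, 1], 148),
  ([3, 38, 17], [0, 2, 1, 0], [1, 0, 1], 593),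
  ([13, 40, 27], [0, 1, 0], [1, 0, 2, 1], 712),
  ([13, 47, 27], [0, 1, 0], [1, 0, 2, 1], 719),
  ([13, 3, 27], [0, 1, 0], [1, 0, 2, 1], 158),
  ([4, 3, 17], [0, 1, 0], [1, 0, 2, 1], 51),
  ([4, 3, 40], [0, 1, 0, 2], [1, 0, 1], 206),
  ([4, 13, 19], [0, 1, 0, 2], [1, 0, 1], 202),
  ([4, 13, 38], [0, 1, 0, 2], [1, 0, 1], 221),
  ([4, 13, 47], [0, 1, 0], [1, 0, 2, 1], 655),
  ([1, 13, 27], [0, 1, 0, 2], [1, 0, 1], 62),
  ([1, 13, 38], [0, 1, 0, 2], [1, 0, 1], 77),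
  ([14, 2, 19], [0, 1, 0], [1, 0, 2, 1], 108),
  ([14, 47, 5], [0, 1, 0, 2], [1, 0, 1], 704),
  ([14, 47, 2], [0, 1, 0, 2], [1, 0, 1], 698),
  ([14, 3, 38], [0, 1, 0, 2], [1, 0, 1], 590),
  ([12, 12, 28], [0], [1, 0, 2, 1, 1], 686),
  ([12, 28, 28], [0, 2, 1, 0, 1], [1], 700),
  ([14, 13, 38], [0, 1, 0, 2], [1, 0, 1], 701),
  ([14, 1, 47], [0, 1, 0, 2], [1, 0, 1], 696),
  ([10, 5, 27], [0, 1, 0], [1, 0, 2, 1], 252),
  ([10, 5, 40], [0, 1, 0], [1, 0, 2, 1], 269),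
  ([32, 3, 22], [0, 1, 0], [1, 0, 2, 1], 175),
  ([32, 14, 22], [0, 1, 0], [1, 0, 2, 1], 703),
  ([32, 14, 1], [0, 1, 0], [1, 0, 2, 1], 302),
  ([26, 3, 22], [0, 1, 0], [1, 0, 2, 1], 168),
  ([26, 4, 19], [0, 2, 1, 0], [1, 0, 1], 307),
  ([13, 5, 37], [0, 1, 0], [1, 0, 2, 1], 268),
  ([7, 5, 37], [0, 1, 0], [1, 0, 2, 1], 258),
  ([39, 18, 5], [0, 2, 1, 0], [1, 0, 1], 275),
  ([46, 36, 15], [0, 1, 0], [1, 0, 2, 1], 1769),
  ([46, 13, 44], [0, 1, 0], [1, 0, 1, 2], 1918),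
  ([46, 13, 0], [0, 1, 0], [1, 0, 2, 1], 647),
  ([33, 13, 0], [0, 2, 1, 0], [1, 0, 1], 20),
  ([33, 46, 13], [0, 1, 0], [1, 0, 2, 1], 1006),
  ([41, 39, 5], [0, 1, 0], [1, 0, 2, 1], 1143),
  ([2, 41, 36], [0, 2, 1, 0], [1, 0, 1], 804),
  ([23, 26, 44], [0, 2, 1, 0], [1, 0, 1], 1244),
  ([23, 46, 26], [0, 1, 0], [1, 0, 2, 1], 1246),
  ([6, 8, 16], [0, 1, 0], [1, 0, 2, 1], 104),
  ([33, 12, 2], [0, 2, 1, 0], [1, 0, 1], 115),
  ([33, 7, 12], [0, 1, 0], [1, 0, 2, 1], 355),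
  ([22, 7, 43], [0, 1, 0], [1, 0, 2, 1], 378),
  ([15, 12, 20], [0, 1, 0, 2], [1, 0, 1], 495),
  ([15, 38, 20], [0, 1, 0, 2], [1, 0, 1], 756),
  ([10, 34, 16], [0, 2, 1, 0], [1, 0, 1], 787),
  ([42, 6, 8], [0, 2, 1, 0], [1, 0, 1], 408),
  ([42, 2, 8], [0, 2, 1, 0], [1, 0, 1], 401),
  ([14, 35, 40], [0, 2, 1, 0], [1, 0, 1], 1384),
  ([36, 14, 46], [0, 2, 1, 0], [1, 0, 1], 1438),
  ([47, 14, 35], [0, 1, 0, 2], [1, 0, 1], 1391),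
  ([29, 9, 46], [0, 2, 1, 0], [1, 0, 1], 670),
  ([5, 43, 40], [0, 2, 1, 0], [1, 0, 1], 1240),
  ([6, 9, 40], [0, 1, 0], [1, 0, 1, 2], 316),
  ([6, 5, 46], [0, 1, 0], [1, 0, 2, 1], 272),
  ([2, 14, 46], [0, 1, 0], [1, 0, 2, 1], 697),
  ([34, 47, 28], [0, 1, 0], [1, 0, 2, 1], 1823),
  ([37, 3, 28], [0, 2, 1, 0], [1, 0, 1], 556),
  ([37, 5, 47], [0, 1, 0, 2], [1, 0, 1], 1573),
  ([37, 5, 3], [0, 1, 0], [1, 0, 2, 1], 251),
  ([8, 3, 28], [0, 1, 0], [1, 0, 2, 1], 155),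
  ([8, 24, 5], [0, 1, 0, 2], [1, 0, 1], 296),
  ([32, 37, 3], [0, 1, 0, 2], [1, 0, 1], 560),
  ([11, 32, 1], [0, 1, 0, 2], [1, 0, 1], 299),
  ([40, 8, 5], [0, 2, 1, 0], [1, 0, 1], 267),
  ([21, 47, 28], [0, 2, 1, 0], [1, 0, 1], 1389),
  ([21, 24, 3], [0, 2, 1, 0], [1, 0, 1], 166)]

/-- Some steps. -/
def steps6 : List Step := [
  ([21, 32, 28], [0, 2, 1, 0], [1, 0, 1], 1374),
  ([21, 32, 3], [0, 2, 1, 0], [1, 0, 1], 174),
  ([21, 6, 28], [0, 2, 1, 0], [1, 0, 1], 220),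
  ([21, 40, 3], [0, 1, 0, 2], [1, 0, 1], 693),
  ([21, 40, 32], [0, 1, 0], [1, 0, 2, 1], 1480),
  ([12, 21, 32], [0, 1, 0, 2], [1, 0, 1], 606),
  ([14, 21, 47], [0, 1, 0, 2], [1, 0, 1], 717),
  ([45, 29, 5], [0, 1, 0], [1, 0, 2, 1], 1422),
  ([45, 32, 5], [0, 1, 0], [1, 0, 2, 1], 1472),
  ([45, 6, 28], [0, 2, 1, 0], [1, 0, 1], 1375),
  ([45, 6, 11], [0, 2, 1, 0], [1, 0, 1], 559),
  ([45, 14, 5], [0, 1, 0], [1, 0, 2, 1], 702),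
  ([30, 45, 6], [0, 1, 0, 2], [1, 0, 1], 1471),
  ([32, 11, 10], [0, 1, 0], [1, 0, 1, 2], 176),
  ([30, 1, 13], [0, 2, 1, 0], [1, 0, 1], 205),
  ([9, 19, 21], [0, 2, 1, 0], [1, 0, 1], 357),
  ([43, 19, 21], [0, 1, 0], [1, 0, 2, 1], 953),
  ([7, 28, 4], [0, 2, 1, 0], [1, 0, 1], 201),
  ([12, 9, 7], [0, 2, 1, 0], [1, 0, 1], 151),
  ([17, 9, 4], [0, 1, 0], [1, 0, 2, 1], 57),
  ([25, 7, 4], [0, 1, 0], [1, 0, 2, 1], 247),
  ([25, 1, 14], [0, 2, 1, 0], [1, 0, 1], 110),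
  ([8, 0, 13], [0, 1, 0], [1, 0, 2, 1], 3),
  ([8, 23, 13], [0, 1, 0], [1, 0, 2, 1], 167),
  ([37, 29, 46], [0, 2, 1, 0], [1, 0, 1], 1966),
  ([3, 22, 23], [0, 1, 0, 2], [1, 0, 1], 165),
  ([28, 45, 0], [0, 1, 0, 2], [1, 0, 1], 1036),
  ([12, 28, 0], [0, 2, 1, 0], [1, 0, 1], 14),
  ([40, 8, 23], [0, 2, 1, 0], [1, 0, 1], 1131),
  ([40, 3, 23], [0, 2, 1, 0], [1, 0, 1], 695),
  ([6, 23, 0], [0, 2, 1, 0], [1, 0, 1], 5),
  ([6, 8, 23], [0, 1, 0], [1, 0, 2, 1], 248),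
  ([32, 37, 0], [0, 1, 0], [1, 0, 2, 1], 277),
  ([32, 21, 23], [0, 2, 1, 0], [1, 0, 1], 1134),
  ([11, 38, 46], [0, 2, 1, 0], [1, 0, 1], 1342),
  ([11, 29, 46], [0, 2, 1, 0], [1, 0, 1], 718),
  ([31, 23, 13], [0, 2, 1, 0], [1, 0, 1], 654),
  ([18, 22, 10], [0, 1, 0], [1, 0, 2, 1], 358),
  ([18, 36, 45], [0, 2, 1, 0], [1, 0, 1], 1629),
  ([36, 32, 37], [0, 1, 0], [1, 0, 2, 1], 1580),
  ([41, 36, 32], [0, 1, 0], [1, 0, 2, 1], 1774),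
  ([41, 38, 28], [0, 1, 0, 2], [1, 0, 1], 1961),
  ([5, 40, 41], [0, 1, 0], [1, 0, 2, 1], 1144),
  ([12, 5, 15], [0, 1, 0, 2], [1, 0, 1], 12),
  ([14, 18, 1], [0, 2, 1, 0], [1, 0, 1], 59),
  ([34, 23, 3], [0, 1, 0], [1, 0, 2, 1], 407),
  ([45, 18, 5], [0, 1, 0], [1, 0, 2, 1], 894),
  ([44, 23, 31], [0, 1, 0], [1, 0, 1, 2], 1484),
  ([46, 38, 18], [0, 1, 0], [1, 0, 1, 2], 1678),
  ([14, 46, 18], [0, 1, 0], [1, 0, 2, 1], 574),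
  ([7, 21, 6], [0, 1, 0, 2], [1, 0, 1], 199),
  ([18, 13, 30], [0, 2, 1, 0], [1, 0, 1], 462),
  ([3, 25, 15], [0, 1, 0, 2], [1, 0, 1], 160),
  ([16, 4, 13], [0, 2, 1, 0], [1, 0, 1], 13),
  ([11, 25, 1], [0, 1, 0, 2], [1, 0, 1], 107),
  ([41, 31, 46], [0, 2, 1, 0], [1, 0, 1], 2206),
  ([17, 23, 8], [0, 2, 1, 0], [1, 0, 1], 400),
  ([45, 36, 28], [0, 1, 0], [1, 0, 1, 2], 1917),
  ([18, 45, 39], [0, 1, 0], [1, 0, 2, 1], 1725),
  ([41, 38, 32], [0, 1, 0], [1, 0, 2, 1], 1870),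
  ([5, 39, 45], [0, 1, 0], [1, 0, 2, 1], 1479),
  ([30, 9, 44], [0, 1, 0, 2], [1, 0, 1], 1475),
  ([21, 17, 3], [0, 2, 1, 0], [1, 0, 1], 159),
  ([26, 41, 40], [0, 2, 1, 0], [1, 0, 1], 1963),
  ([19, 0, 13], [0, 1, 0], [1, 0, 2, 1], 10),
  ([43, 47, 30], [0, 1, 0], [1, 0, 2, 1], 2255),
  ([27, 43, 32], [0, 3, 2, 1, 0], [1, 0, 1], 1581),
  ([1, 39, 33], [0, 3, 2, 1, 0], [1, 0, 1], 513),
  ([1, 40, 34], [0, 3, 2, 1, 0], [1, 0, 1], 610),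
  ([1, 44, 27], [0, 3, 2, 1, 0], [1, 0, 1], 939),
  ([45, 32, 33], [0, 1, 0], [1, 0, 1, 2, 3], 2109),
  ([6, 39, 33], [0, 1, 0], [1, 0, 3, 2, 1], 519),
  ([6, 40, 34], [0, 1, 0], [1, 0, 3, 2, 1], 616),
  ([6, 44, 27], [0, 3, 2, 1, 0], [1, 0, 1], 1325),
  ([10, 45, 33], [0, 3, 2, 1, 0], [1, 0, 1], 1622),
  ([10, 45, 32], [0, 3, 2, 1, 0], [1, 0, 1], 1184),
  ([10, 45, 39], [0, 3, 2, 1, 0], [1, 0, 1], 1863),
  ([10, 45, 43], [0, 3, 2, 1, 0], [1, 0, 1], 1195),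
  ([17, 40, 34], [0, 3, 2, 1, 0], [1, 0, 1], 1668),
  ([17, 44, 27], [0, 1, 0], [1, 0, 3, 2, 1], 956),
  ([17, 6, 27], [0, 1, 0], [1, 0, 3, 2, 1], 310),
  ([17, 6, 34], [0, 1, 0, 3, 2], [1, 0, 1], 838),
  ([17, 6, 40], [0, 1, 0], [1, 0, 3, 2, 1], 335),
  ([17, 6, 44], [0, 1, 0, 3, 2], [1, 0, 1], 863),
  ([26, 40, 34], [0, 1, 0], [1, 0, 3, 2, 1], 1768),
  ([26, 44, 27], [0, 1, 0], [1, 0, 3, 2, 1], 1436),
  ([26, 1, 27], [0, 1, 0], [1, 0, 3, 2, 1], 79),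
  ([26, 1, 34], [0, 1, 0], [1, 0, 3, 2, 1], 90),
  ([26, 1, 40], [0, 1, 0, 3, 2], [1, 0, 1], 1279),
  ([26, 1, 44], [0, 1, 0, 3, 2], [1, 0, 1], 1290),
  ([12, 45, 43], [0, 1, 0], [1, 0, 3, 2, 1], 1197),
  ([12, 17, 40], [0, 1, 0, 3, 2], [1, 0, 1], 612),
  ([19, 6, 44], [0, 1, 0, 3, 2], [1, 0, 1], 941),
  ([22, 6, 44], [0, 1, 0, 3], [1, 0, 1, 2], 1103),
  ([22, 10, 39], [0, 1, 0], [1, 0, 3, 2, 1], 518),
  ([31, 1, 44], [0, 1, 0, 3], [1, 0, 1, 2], 1530),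
  ([30, 33, 0], [0, 3, 2, 1, 0], [1, 0, 1], 41),
  ([1, 11, 40], [0, 1, 0], [1, 0, 3, 2, 1], 540),
  ([1, 18, 44], [0, 1, 0], [1, 0, 3, 2, 1], 883),
  ([12, 41, 0], [0, 3, 2, 1, 0], [1, 0, 1], 22)]

/-- Some steps. -/
def steps7 : List Step := [
  ([12, 41, 40], [0, 3, 2, 1, 0], [1, 0, 1], 1672),
  ([12, 41, 11], [0, 3, 2, 1, 0], [1, 0, 1], 562),
  ([12, 41, 30], [0, 3, 2, 1, 0], [1, 0, 1], 1086),
  ([19, 30, 44], [0, 3, 2, 1, 0], [1, 0, 1], 1340),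
  ([19, 30, 18], [0, 3, 2, 1, 0], [1, 0, 1], 891),
  ([19, 41, 30], [0, 1, 0], [1, 0, 3, 2, 1], 1097),
  ([31, 37, 33], [0, 1, 0], [1, 0, 3, 2, 1], 1814),
  ([4, 24, 33], [0, 1, 0], [1, 0, 3, 2, 1], 744),
  ([4, 37, 33], [0, 1, 0], [1, 0, 3, 2, 1], 421),
  ([38, 4, 33], [0, 1, 0, 3, 2], [1, 0, 1], 422),
  ([15, 44, 40], [0, 1, 0], [1, 0, 3, 2, 1], 2157),
  ([15, 4, 40], [0, 1, 0], [1, 0, 3, 2, 1], 237),
  ([15, 4, 44], [0, 1, 0, 3, 2], [1, 0, 1], 765),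
  ([21, 1, 40], [0, 1, 0], [1, 0, 1, 2, 3], 1039),
  ([21, 1, 44], [0, 1, 0], [1, 0, 1, 2, 3], 1050),
  ([21, 39, 42], [0, 3, 2, 1, 0], [1, 0, 1], 2062),
  ([28, 21, 42], [0, 1, 0], [1, 0, 3, 2, 1], 1054),
  ([0, 39, 17], [0, 3, 2, 1, 0], [1, 0, 1], 841),
  ([15, 39, 2], [0, 3, 2, 1, 0], [1, 0, 1], 139),
  ([15, 28, 2], [0, 3, 2, 1, 0], [1, 0, 1], 119),
  ([15, 44, 28], [0, 1, 0], [1, 0, 3, 2, 1], 908),
  ([37, 28, 42], [0, 1, 0, 3], [1, 0, 1, 2], 1822),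
  ([37, 0, 39], [0, 1, 0, 3, 2], [1, 0, 1], 469),
  ([37, 15, 39], [0, 1, 0, 3, 2], [1, 0, 1], 1621),
  ([20, 21, 42], [0, 3, 2, 1, 0], [1, 0, 1], 810),
  ([20, 28, 42], [0, 1, 0, 3], [1, 0, 1, 2], 1004),
  ([20, 28, 21], [0, 1, 0], [1, 0, 3, 2, 1], 892),
  ([20, 15, 28], [0, 1, 0, 3, 2], [1, 0, 1], 884),
  ([9, 39, 42], [0, 1, 0], [1, 0, 3, 2, 1], 1623),
  ([9, 21, 42], [0, 1, 0], [1, 0, 3, 2, 1], 789),
  ([9, 15, 39], [0, 1, 0, 3, 2], [1, 0, 1], 465),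
  ([46, 20, 21], [0, 1, 0, 3, 2], [1, 0, 1], 814),
  ([25, 34, 11], [0, 3, 2, 1, 0], [1, 0, 1], 563),
  ([25, 17, 34], [0, 1, 0], [1, 0, 3, 2, 1], 857),
  ([25, 7, 34], [0, 1, 0], [1, 0, 3, 2, 1], 371),
  ([43, 15, 28], [0, 1, 0, 3], [1, 0, 1, 2], 1147),
  ([41, 0, 39], [0, 1, 0], [1, 0, 1, 2, 3], 1241),
  ([24, 3, 28], [0, 1, 0], [1, 0, 3, 2, 1], 173),
  ([7, 32, 24], [0, 3, 2, 1, 0], [1, 0, 1], 120),
  ([7, 6, 47], [0, 1, 0], [1, 0, 3, 2, 1], 305),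
  ([7, 35, 47], [0, 1, 0], [1, 0, 3, 2, 1], 1716),
  ([7, 35, 32], [0, 1, 0], [1, 0, 3, 2, 1], 659),
  ([9, 32, 24], [0, 1, 0], [1, 0, 3, 2, 1], 128),
  ([9, 6, 47], [0, 1, 0], [1, 0, 3, 2, 1], 313),
  ([36, 7, 32], [0, 1, 0, 3, 2], [1, 0, 1], 660),
  ([16, 1, 28], [0, 1, 0], [1, 0, 1, 2, 3], 256),
  ([16, 29, 28], [0, 3, 2, 1, 0], [1, 0, 1], 988),
  ([16, 29, 1], [0, 3, 2, 1, 0], [1, 0, 1], 74),
  ([16, 29, 3], [0, 3, 2, 1, 0], [1, 0, 1], 164),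
  ([16, 29, 5], [0, 3, 2, 1, 0], [1, 0, 1], 266),
  ([43, 24, 28], [0, 1, 0], [1, 0, 1, 2, 3], 1579),
  ([43, 9, 47], [0, 1, 0, 3], [1, 0, 1, 2], 1915),
  ([17, 47, 28], [0, 1, 0], [1, 0, 3, 2, 1], 1247),
  ([17, 29, 28], [0, 1, 0], [1, 0, 3, 2, 1], 989),
  ([5, 19, 27], [0, 3, 2, 1, 0], [1, 0, 1], 171),
  ([5, 36, 40], [0, 3, 2, 1, 0], [1, 0, 1], 664),
  ([2, 19, 27], [0, 1, 0], [1, 0, 3, 2, 1], 163),
  ([2, 5, 27], [0, 1, 0], [1, 0, 3, 2, 1], 149),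
  ([4, 2, 40], [0, 1, 0, 3], [1, 0, 1, 2], 224),
  ([4, 38, 39], [0, 1, 0], [1, 0, 3, 2, 1], 710),
  ([4, 13, 36], [0, 1, 0], [1, 0, 3, 2, 1], 589),
  ([1, 5, 40], [0, 1, 0], [1, 0, 3, 2, 1], 271),
  ([14, 1, 39], [0, 1, 0, 3, 2], [1, 0, 1], 494),
  ([24, 2, 27], [0, 1, 0], [1, 0, 1, 2, 3], 216),
  ([13, 36, 15], [0, 1, 0], [1, 0, 3, 2, 1], 372),
  ([13, 0, 15], [0, 1, 0], [1, 0, 3, 2, 1], 7),
  ([13, 0, 36], [0, 1, 0, 3, 2], [1, 0, 1], 349),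
  ([26, 5, 37], [0, 1, 0], [1, 0, 3, 2, 1], 286),
  ([9, 26, 37], [0, 1, 0], [1, 0, 1, 2, 3], 471),
  ([23, 36, 15], [0, 3, 2, 1, 0], [1, 0, 1], 763),
  ([12, 34, 16], [0, 1, 0], [1, 0, 3, 2, 1], 370),
  ([12, 2, 34], [0, 1, 0, 3, 2], [1, 0, 1], 348),
  ([15, 20, 29], [0, 1, 0], [1, 0, 3, 2, 1], 932),
  ([9, 47, 14], [0, 3, 2, 1, 0], [1, 0, 1], 711),
  ([10, 46, 16], [0, 3, 2, 1, 0], [1, 0, 1], 794),
  ([10, 14, 16], [0, 1, 0, 3], [1, 0, 1, 2], 442),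
  ([29, 3, 46], [0, 1, 0, 3], [1, 0, 1, 2], 1373),
  ([26, 16, 40], [0, 1, 0], [1, 0, 1, 2, 3], 1294),
  ([5, 34, 1], [0, 3, 2, 1, 0], [1, 0, 1], 69),
  ([11, 32, 34], [0, 1, 0, 3, 2], [1, 0, 1], 568),
  ([6, 37, 47], [0, 3, 2, 1, 0], [1, 0, 1], 1487),
  ([6, 8, 37], [0, 1, 0], [1, 0, 3, 2, 1], 398),
  ([6, 11, 47], [0, 1, 0, 3, 2], [1, 0, 1], 318),
  ([6, 11, 37], [0, 1, 0], [1, 0, 3, 2, 1], 558),
  ([21, 1, 28], [0, 1, 0], [1, 0, 1, 2, 3], 261),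
  ([21, 29, 28], [0, 3, 2, 1, 0], [1, 0, 1], 1324),
  ([23, 34, 36], [0, 1, 0], [1, 0, 3, 2, 1], 1667),
  ([15, 2, 37], [0, 1, 0], [1, 0, 1, 2, 3], 743),
  ([12, 23, 13], [0, 3, 2, 1, 0], [1, 0, 1], 541),
  ([21, 29, 46], [0, 3, 2, 1, 0], [1, 0, 1], 1534),
  ([6, 37, 0], [0, 3, 2, 1, 0], [1, 0, 1], 30),
  ([14, 23, 38], [0, 1, 0], [1, 0, 1, 2, 3], 709),
  ([20, 1, 21], [0, 1, 0], [1, 0, 3, 2, 1], 64),
  ([18, 44, 32], [0, 1, 0], [1, 0, 3, 2, 1], 1388),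
  ([2, 32, 37], [0, 1, 0], [1, 0, 3, 2, 1], 1136),
  ([41, 17, 40], [0, 1, 0, 3], [1, 0, 1, 2], 2015),
  ([1, 33, 37], [0, 1, 0], [1, 0, 3, 2, 1], 417),
  ([15, 3, 28], [0, 1, 0], [1, 0, 3, 2, 1], 162),
  ([23, 15, 40], [0, 1, 0, 3, 2], [1, 0, 1], 1149),
  ([23, 14, 15], [0, 1, 0, 3, 2], [1, 0, 1], 215)]

/-- Some steps. -/
def steps8 : List Step := [
  ([22, 41, 28], [0, 1, 0], [1, 0, 3, 2, 1], 1481),
  ([19, 4, 23], [0, 1, 0], [1, 0, 3, 2, 1], 207),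
  ([4, 33, 10], [0, 3, 2, 1, 0], [1, 0, 1], 394),
  ([28, 6, 18], [0, 1, 0], [1, 0, 1, 2, 3], 172),
  ([7, 30, 6], [0, 3, 2, 1, 0], [1, 0, 1], 6),
  ([4, 15, 20], [0, 1, 0], [1, 0, 3, 2, 1], 111),
  ([4, 13, 15], [0, 1, 0, 3], [1, 0, 1, 2], 100),
  ([4, 7, 35], [0, 1, 0], [1, 0, 3, 2, 1], 347),
  ([25, 7, 30], [0, 1, 0, 3, 2], [1, 0, 1], 25),
  ([2, 14, 37], [0, 1, 0], [1, 0, 3, 2, 1], 446),
  ([2, 8, 37], [0, 1, 0], [1, 0, 3, 2, 1], 393),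
  ([17, 8, 25], [0, 1, 0], [1, 0, 1, 2, 3], 17),
  ([25, 34, 40], [0, 3, 2, 1, 0], [1, 0, 1], 1720),
  ([25, 0, 40], [0, 1, 0, 3, 2], [1, 0, 1], 1230),
  ([30, 33, 39], [0, 3, 2, 1, 0], [1, 0, 1], 1815),
  ([5, 8, 26], [0, 1, 0, 3, 2], [1, 0, 1], 53),
  ([10, 40, 34], [0, 2, 1, 0], [1, 0, 2, 1, 3], 952),
  ([12, 37, 33], [0, 2, 1, 0], [1, 0, 2, 1, 3], 949),
  ([44, 7, 11], [0, 2, 1, 0], [1, 0, 2, 1, 3], 373),
  ([46, 0, 17], [0, 2, 1, 0], [1, 0, 2, 1, 3], 839),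
  ([3, 38, 39], [0, 2, 1, 0], [1, 0, 2, 1, 3], 662),
  ([13, 19, 27], [0, 2, 1, 0], [1, 0, 2, 1, 3], 691),
  ([9, 36, 40], [0, 2, 1, 0], [1, 0, 2, 1, 3], 1380),
  ([33, 29, 28], [0, 2, 1, 0], [1, 0, 2, 1, 3], 1427),
  ([8, 29, 28], [0, 2, 1, 0], [1, 0, 2, 1, 3], 557),
  ([45, 5, 1], [0, 2, 1, 0], [1, 0, 2, 1, 3], 262),
  ([47, 5, 21], [0, 2, 1, 0], [1, 0, 2, 1, 3], 1040),
  ([38, 11, 13], [0, 2, 1, 0], [1, 0, 2, 1, 3], 651),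
  ([40, 8, 10], [0, 2, 1, 0], [1, 0, 2, 1, 3], 413),
  ([9, 34, 36], [0, 2, 1, 0], [1, 0, 2, 1, 3], 900),
  ([7, 37, 39], [0, 2, 1, 0], [1, 0, 2, 1, 3], 903),
  ([3, 37, 38], [0, 2, 1, 0], [1, 0, 2, 1, 3], 613),
  ([35, 8, 10], [0, 2, 1, 0], [1, 0, 2, 1, 3], 498),
  ([44, 8, 10], [0, 2, 1, 0], [1, 0, 2, 1, 3], 420),
  ([4, 47, 41], [0, 2, 1, 0], [1, 0, 2, 1, 3], 1055),
  ([8, 36, 40], [0, 2, 1, 0], [1, 0, 2, 1, 3], 1332),
  ([1, 25, 30], [0, 2, 1, 0], [1, 0, 2, 1, 3], 126),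
  ([12, 28, 20], [0, 2, 1, 0], [1, 0, 2, 1, 3], 508),
  ([7, 29, 28], [0, 2, 1, 0], [1, 0, 2, 1, 3], 461),
  ([0, 42, 46], [0, 2, 1, 0], [1, 0, 2, 1, 3], 766),
  ([36, 9, 8], [0, 2, 1, 0], [1, 0, 2, 1, 3], 451),
  ([40, 18, 19], [0, 2, 1, 0], [1, 0, 2, 1, 3], 902),
  ([2, 47, 41], [0, 2, 1, 0], [1, 0, 2, 1, 3], 815),
  ([34, 20, 28], [0, 2, 1, 0], [1, 0, 2, 1, 3], 1377),
  ([13, 38, 33], [0, 2, 1, 0], [1, 0, 2, 1, 3], 1425),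
  ([12, 39, 33], [0, 2, 1, 0], [1, 0, 2, 1, 3], 951),
  ([2, 42, 31], [0, 2, 1, 0], [1, 0, 2, 1, 3], 847),
  ([32, 22, 17], [0, 2, 1, 0], [1, 0, 2, 1, 3], 1082),
  ([13, 38, 37], [0, 2, 1, 0], [1, 0, 2, 1, 3], 1382),
  ([11, 38, 39], [0, 2, 1, 0], [1, 0, 2, 1, 3], 1335),
  ([27, 36, 35], [0, 2, 1, 0], [1, 0, 2, 1, 3], 1765),
  ([19, 37, 39], [0, 2, 1, 0], [1, 0, 2, 1, 3], 1671),
  ([8, 36, 35], [0, 2, 1, 0], [1, 0, 2, 1, 3], 947),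
  ([47, 4, 15], [0, 2, 1, 0], [1, 0, 2, 1, 3], 751),
  ([3, 37, 39], [0, 2, 1, 0], [1, 0, 2, 1, 3], 567),
  ([2, 30, 41], [0, 2, 1, 0], [1, 0, 2, 1, 3], 798),
  ([1, 45, 32], [0, 2, 1, 0], [1, 0, 2, 1, 3], 333),
  ([39, 7, 11], [0, 2, 1, 0], [1, 0, 2, 1, 3], 548),
  ([38, 7, 13], [0, 2, 1, 0], [1, 0, 2, 1, 3], 365),
  ([39, 12, 7], [0, 2, 1, 0], [1, 0, 2, 1, 3], 596),
  ([47, 2, 15], [0, 2, 1, 0], [1, 0, 2, 1, 3], 138),
  ([8, 35, 40], [0, 2, 1, 0], [1, 0, 2, 1, 3], 904),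
  ([9, 34, 40], [0, 2, 1, 0], [1, 0, 2, 1, 3], 1378),
  ([1, 25, 47], [0, 2, 1, 0], [1, 0, 2, 1, 3], 1177),
  ([12, 18, 28], [0, 2, 1, 0], [1, 0, 2, 1, 3], 412),
  ([40, 9, 8], [0, 2, 1, 0], [1, 0, 2, 1, 3], 459),
  ([43, 6, 0], [0, 2, 1, 0], [1, 0, 2, 1, 3], 304),
  ([47, 16, 5], [0, 2, 1, 0], [1, 0, 2, 1, 3], 800),
  ([45, 0, 17], [0, 2, 1, 0], [1, 0, 2, 1, 3], 837),
  ([1, 45, 43], [0, 2, 1, 0], [1, 0, 2, 1, 3], 1099),
  ([46, 0, 22], [0, 2, 1, 0], [1, 0, 2, 1, 3], 45),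
  ([44, 13, 7], [0, 2, 1, 0], [1, 0, 2, 1, 3], 375),
  ([33, 11, 13], [0, 2, 1, 0], [1, 0, 2, 1, 3], 642),
  ([43, 5, 21], [0, 2, 1, 0], [1, 0, 2, 1, 3], 1033),
  ([41, 5, 1], [0, 2, 1, 0], [1, 0, 2, 1, 3], 255),
  ([27, 9, 10], [0, 2, 1, 0], [1, 0, 2, 1, 3], 491),
  ([28, 8, 10], [0, 2, 1, 0], [1, 0, 2, 1, 3], 397),
  ([27, 39, 33], [0, 2, 1, 0], [1, 0, 2, 1, 3], 1624),
  ([10, 44, 27], [0, 2, 1, 0], [1, 0, 2, 1, 3], 620),
  ([17, 45, 32], [0, 2, 1, 0], [1, 0, 2, 1, 3], 1293),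
  ([6, 45, 43], [0, 2, 1, 0], [1, 0, 2, 1, 3], 1531),
  ([24, 30, 0], [0, 2, 1, 0], [1, 0, 2, 1, 3], 31),
  ([45, 0, 6], [0, 2, 1, 0], [1, 0, 2, 1, 3], 309),
  ([12, 18, 44], [0, 2, 1, 0], [1, 0, 2, 1, 3], 428),
  ([19, 11, 40], [0, 2, 1, 0], [1, 0, 2, 1, 3], 424),
  ([3, 40, 34], [0, 2, 1, 0], [1, 0, 2, 1, 3], 706),
  ([31, 41, 0], [0, 2, 1, 0], [1, 0, 2, 1, 3], 233),
  ([1, 30, 41], [0, 2, 1, 0], [1, 0, 2, 1, 3], 750),
  ([39, 34, 11], [0, 2, 1, 0], [1, 0, 2, 1, 3], 572),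
  ([28, 7, 34], [0, 2, 1, 0], [1, 0, 2, 1, 3], 466),
  ([44, 9, 8], [0, 2, 1, 0], [1, 0, 2, 1, 3], 419),
  ([25, 21, 42], [0, 2, 1, 0], [1, 0, 2, 1, 3], 1051),
  ([0, 45, 43], [0, 2, 1, 0], [1, 0, 2, 1, 3], 813),
  ([33, 3, 28], [0, 2, 1, 0], [1, 0, 2, 1, 3], 179),
  ([33, 29, 3], [0, 2, 1, 0], [1, 0, 2, 1, 3], 180),
  ([35, 29, 3], [0, 2, 1, 0], [1, 0, 2, 1, 3], 183),
  ([16, 32, 24], [0, 2, 1, 0], [1, 0, 2, 1, 3], 848),
  ([1, 43, 32], [0, 2, 1, 0], [1, 0, 2, 1, 3], 331),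
  ([4, 47, 17], [0, 2, 1, 0], [1, 0, 2, 1, 3], 95),
  ([7, 28, 44], [0, 2, 1, 0], [1, 0, 2, 1, 3], 476)]

/-- Some steps. -/
def steps9 : List Step := [
  ([18, 13, 36], [0, 2, 1, 0], [1, 0, 2, 1, 3], 468),
  ([44, 9, 10], [0, 2, 1, 0], [1, 0, 2, 1, 3], 515),
  ([17, 46, 5], [0, 2, 1, 0], [1, 0, 2, 1, 3], 142),
  ([0, 26, 46], [0, 2, 1, 0], [1, 0, 2, 1, 3], 1130),
  ([12, 20, 44], [0, 2, 1, 0], [1, 0, 2, 1, 3], 524),
  ([22, 43, 2], [0, 2, 1, 0], [1, 0, 2, 1, 3], 91),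
  ([47, 16, 1], [0, 2, 1, 0], [1, 0, 2, 1, 3], 792),
  ([24, 46, 16], [0, 2, 1, 0], [1, 0, 2, 1, 3], 862),
  ([2, 42, 46], [0, 2, 1, 0], [1, 0, 2, 1, 3], 1242),
  ([34, 3, 28], [0, 2, 1, 0], [1, 0, 2, 1, 3], 181),
  ([38, 3, 28], [0, 2, 1, 0], [1, 0, 2, 1, 3], 184),
  ([21, 32, 24], [0, 2, 1, 0], [1, 0, 2, 1, 3], 1182),
  ([1, 30, 47], [0, 2, 1, 0], [1, 0, 2, 1, 3], 239),
  ([2, 46, 21], [0, 2, 1, 0], [1, 0, 2, 1, 3], 46),
  ([9, 44, 19], [0, 2, 1, 0], [1, 0, 2, 1, 3], 380),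
  ([42, 25, 0], [0, 2, 1, 0], [1, 0, 2, 1, 3], 745),
  ([46, 15, 2], [0, 2, 1, 0], [1, 0, 2, 1, 3], 137),
  ([6, 45, 23], [0, 2, 1, 0], [1, 0, 2, 1, 3], 1135),
  ([6, 21, 46], [0, 2, 1, 0], [1, 0, 2, 1, 3], 238),
  ([20, 8, 38], [0, 2, 1, 0], [1, 0, 2, 1, 3], 374),
  ([44, 7, 12], [0, 2, 1, 0], [1, 0, 2, 1, 3], 609),
  ([43, 1, 21], [0, 2, 1, 0], [1, 0, 2, 1, 3], 89),
  ([45, 16, 1], [0, 2, 1, 0], [1, 0, 2, 1, 3], 790),
  ([16, 24, 45], [0, 2, 1, 0], [1, 0, 2, 1, 3], 1193),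
  ([1, 47, 41], [0, 2, 1, 0], [1, 0, 2, 1, 3], 767),
  ([40, 3, 19], [0, 2, 1, 0], [1, 0, 2, 1, 3], 182),
  ([41, 31, 1], [0, 2, 1, 0], [1, 0, 2, 1, 3], 93),
  ([47, 1, 21], [0, 2, 1, 0], [1, 0, 2, 1, 3], 1032),
  ([15, 30, 47], [0, 2, 1, 0], [1, 0, 2, 1, 3], 1482),
  ([4, 42, 46], [0, 2, 1, 0], [1, 0, 2, 1, 3], 1102),
  ([38, 3, 18], [0, 2, 1, 0], [1, 0, 2, 1, 3], 594),
  ([33, 11, 12], [0, 2, 1, 0], [1, 0, 2, 1, 3], 547),
  ([38, 7, 11], [0, 2, 1, 0], [1, 0, 2, 1, 3], 363),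
  ([25, 21, 1], [0, 2, 1, 0], [1, 0, 2, 1, 3], 117),
  ([6, 16, 21], [0, 2, 1, 0], [1, 0, 2, 1, 3], 208),
  ([16, 30, 6], [0, 2, 1, 0], [1, 0, 2, 1, 3], 311),
  ([46, 0, 6], [0, 2, 1, 0], [1, 0, 2, 1, 3], 32),
  ([28, 12, 36], [0, 2, 1, 0], [1, 0, 2, 1, 3], 708),
  ([3, 36, 40], [0, 2, 1, 0], [1, 0, 2, 1, 3], 520),
  ([25, 24, 4], [0, 2, 1, 0], [1, 0, 2, 1, 3], 264),
  ([47, 5, 1], [0, 2, 1, 0], [1, 0, 2, 1, 3], 80),
  ([25, 1, 31], [0, 2, 1, 0], [1, 0, 2, 1, 3], 127),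
  ([27, 9, 39], [0, 2, 1, 0], [1, 0, 2, 1, 3], 472),
  ([3, 35, 40], [0, 2, 1, 0], [1, 0, 2, 1, 3], 707),
  ([36, 37, 14], [0, 2, 1, 0], [1, 0, 2, 1, 3], 716),
  ([34, 20, 3], [0, 2, 1, 0], [1, 0, 2, 1, 3], 177),
  ([23, 17, 6], [0, 2, 1, 0], [1, 0, 2, 1, 3], 257),
  ([43, 5, 1], [0, 2, 1, 0], [1, 0, 2, 1, 3], 73),
  ([23, 6, 47], [0, 2, 1, 0], [1, 0, 2, 1, 3], 287),
  ([2, 47, 30], [0, 2, 1, 0], [1, 0, 2, 1, 3], 1278),
  ([24, 25, 30], [0, 2, 1, 0], [1, 0, 2, 1, 3], 1231),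
  ([28, 12, 7], [0, 2, 1, 0], [1, 0, 2, 1, 3], 350),
  ([44, 9, 29], [0, 2, 1, 0], [1, 0, 1, 3, 2, 4], 668),
  ([47, 16, 30], [0, 2, 1, 0], [1, 0, 1, 3, 2, 4], 1151),
  ([30, 26, 41], [0, 2, 1, 0], [1, 0, 1, 3, 2, 4], 1577),
  ([45, 5, 43], [0, 2, 1, 0, 2, 4, 5], [1, 0, 1, 3], 1245),
  ([24, 5, 15], [0, 2, 1, 0, 2, 4, 5], [1, 0, 1, 3], 303),
  ([15, 26, 4], [0, 2, 1, 0], [1, 0, 1, 3, 2, 4], 209),
  ([5, 22, 17], [0, 2, 1, 0], [1, 0, 2, 1, 3], 118),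
  ([3, 40, 42], [0, 2, 1, 0, 4, 5], [1, 0, 3, 2, 1, 3, 5, 6, 7], 714),
  ([6, 42, 37], [0, 2, 1, 0], [1, 0, 3, 2, 1, 3, 6, 5, 4, 6, 7], 1189),
  ([1, 47, 37], [0, 2, 1, 0], [1, 0, 3, 2, 1, 3, 6, 5, 4, 6, 7], 431),
  ([3, 47, 34], [0, 3, 2, 1, 0], [1, 0, 2, 1, 4, 3, 5, 6, 5], 322),
  ([7, 47, 27], [0, 3, 2, 1, 0], [1, 0, 2, 1, 4, 3, 5, 6, 5], 843),
  ([4, 47, 33], [0, 2, 1, 0], [1, 0, 3, 2, 1, 3, 6, 5, 4, 6, 7], 1521),
  ([6, 45, 33], [0, 2, 1, 0], [1, 0, 3, 2, 1, 3, 6, 5, 4, 6, 7], 525),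
  ([3, 45, 36], [0, 3, 2, 1, 0], [1, 0, 2, 1, 4, 3, 5, 6, 5], 228),
  ([8, 36, 32], [0, 2, 1, 0, 4, 5], [1, 0, 3, 2, 1, 3, 5, 6, 7], 944),
  ([10, 34, 30], [0, 2, 1, 0, 4, 5], [1, 0, 3, 2, 1, 3, 5, 6, 7], 942),
  ([7, 38, 30], [0, 2, 1, 0, 4, 5], [1, 0, 3, 2, 1, 3, 5, 6, 7], 38),
  ([1, 30, 44], [0, 2, 1, 0], [1, 0, 3, 2, 1, 3, 6, 5, 4, 6, 7], 236),
  ([5, 22, 36], [0, 2, 1, 0], [1, 0, 3, 2, 1, 3, 6, 5, 4, 6, 7], 646),
  ([9, 22, 29], [0, 3, 2, 1, 0], [1, 0, 2, 1, 4, 3, 5, 6, 5], 29),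
  ([8, 29, 25], [0, 2, 1, 0, 4, 5], [1, 0, 3, 2, 1, 3, 5, 6, 7], 601),
  ([10, 27, 41], [0, 2, 1, 0, 4, 5], [1, 0, 3, 2, 1, 3, 5, 6, 7], 617),
  ([1, 41, 40], [0, 2, 1, 0], [1, 0, 3, 2, 1, 3, 6, 5, 4, 6, 7], 760),
  ([8, 43, 40], [0, 3, 2, 1, 0], [1, 0, 2, 1, 4, 3, 5, 6, 5], 1339),
  ([0, 42, 40], [0, 2, 1, 0], [1, 0, 3, 2, 1, 3, 6, 5, 4, 6, 7], 570),
  ([7, 29, 45], [0, 2, 1, 0, 4, 5], [1, 0, 3, 2, 1, 3, 5, 6, 7], 749),
  ([1, 32, 44], [0, 2, 1, 0], [1, 0, 3, 2, 1, 3, 6, 5, 4, 6, 7], 332),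
  ([11, 29, 42], [0, 2, 1, 0, 4, 5], [1, 0, 3, 2, 1, 3, 5, 6, 7], 1037),
  ([0, 45, 29], [0, 2, 1, 0], [1, 0, 3, 2, 1, 3, 6, 5, 4, 6, 7], 189),
  ([1, 45, 28], [0, 2, 1, 0], [1, 0, 3, 2, 1, 3, 6, 5, 4, 6, 7], 1084),
  ([8, 47, 28], [0, 3, 2, 1, 0], [1, 0, 2, 1, 4, 3, 5, 6, 5], 575),
  ([3, 47, 37], [0, 3, 2, 1, 0], [1, 0, 2, 1, 4, 3, 5, 6, 5], 325),
  ([12, 41, 28], [0, 3, 2, 1, 0], [1, 0, 2, 1, 4, 3, 5, 6, 5], 713),
  ([3, 41, 40], [0, 3, 2, 1, 0], [1, 0, 2, 1, 4, 3, 5, 6, 5], 40),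
  ([5, 41, 38], [0, 2, 1, 0], [1, 0, 3, 2, 1, 3, 6, 5, 4, 6, 7], 1142),
  ([0, 46, 38], [0, 2, 1, 0], [1, 0, 3, 2, 1, 3, 6, 5, 4, 6, 7], 430),
  ([3, 46, 34], [0, 3, 2, 1, 0], [1, 0, 2, 1, 4, 3, 5, 6, 5], 274),
  ([6, 23, 34], [0, 2, 1, 0], [1, 0, 3, 2, 1, 3, 6, 5, 4, 6, 7], 599),
  ([8, 29, 46], [0, 2, 1, 0, 4, 5], [1, 0, 3, 2, 1, 3, 5, 6, 7], 622),
  ([3, 38, 46], [0, 2, 1, 0, 4, 5], [1, 0, 3, 2, 1, 3, 5, 6, 7], 278),
  ([2, 21, 40], [0, 2, 1, 0], [1, 0, 3, 2, 1, 3, 6, 5, 4, 6, 7], 645),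
  ([10, 21, 28], [0, 3, 2, 1, 0], [1, 0, 2, 1, 4, 3, 5, 6, 5], 76),
  ([12, 46, 18], [0, 3, 2, 1, 0, 7], [1, 0, 2, 1, 4, 3, 5, 6, 5], 895),
  ([20, 21, 14], [0, 3, 2, 1, 0, 7], [1, 0, 2, 1, 4, 3, 5, 6, 5], 688),
  ([10, 45, 11], [0, 3, 2, 1, 0, 7], [1, 0, 2, 1, 4, 3, 5, 6, 5], 552),
  ([13, 45, 8], [0, 3, 2, 1, 0, 7], [1, 0, 2, 1, 4, 3, 5, 6, 5], 416),
  ([9, 47, 12], [0, 3, 2, 1, 0, 7], [1, 0, 2, 1, 4, 3, 5, 6, 5], 191)]

/-- Some steps. -/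
def steps10 : List Step := [
  ([1, 47, 28], [0, 2, 1, 0], [1, 0, 3, 2, 1, 3, 6, 5, 4, 6, 7], 1180),
  ([17, 31, 28], [0, 2, 1, 0], [1, 0, 3, 2, 1, 3, 6, 5, 4, 6, 7], 991),
  ([7, 39, 31], [0, 2, 1, 0, 4, 5], [1, 0, 3, 2, 1, 3, 5, 6, 7], 87),
  ([9, 36, 31], [0, 2, 1, 0, 4, 5], [1, 0, 3, 2, 1, 3, 5, 6, 7], 276),
  ([3, 46, 36], [0, 3, 2, 1, 0], [1, 0, 2, 1, 4, 3, 5, 6, 5], 526),
  ([6, 46, 33], [0, 2, 1, 0], [1, 0, 3, 2, 1, 3, 6, 5, 4, 6, 7], 1569),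
  ([5, 47, 33], [0, 2, 1, 0], [1, 0, 3, 2, 1, 3, 6, 5, 4, 6, 7], 479),
  ([3, 47, 35], [0, 3, 2, 1, 0], [1, 0, 2, 1, 4, 3, 5, 6, 5], 323),
  ([7, 47, 28], [0, 3, 2, 1, 0], [1, 0, 2, 1, 4, 3, 5, 6, 5], 844),
  ([10, 35, 30], [0, 2, 1, 0, 4, 5], [1, 0, 3, 2, 1, 3, 5, 6, 7], 990),
  ([1, 43, 28], [0, 2, 1, 0], [1, 0, 3, 2, 1, 3, 6, 5, 4, 6, 7], 187),
  ([15, 26, 28], [0, 2, 1, 0], [1, 0, 3, 2, 1, 3, 6, 5, 4, 6, 7], 890),
  ([10, 28, 45], [0, 2, 1, 0, 4, 5], [1, 0, 3, 2, 1, 3, 5, 6, 7], 669),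
  ([3, 45, 39], [0, 3, 2, 1, 0], [1, 0, 2, 1, 4, 3, 5, 6, 5], 231),
  ([0, 31, 39], [0, 2, 1, 0], [1, 0, 3, 2, 1, 3, 6, 5, 4, 6, 7], 463),
  ([7, 29, 46], [0, 2, 1, 0, 4, 5], [1, 0, 3, 2, 1, 3, 5, 6, 7], 797),
  ([15, 25, 29], [0, 2, 1, 0], [1, 0, 3, 2, 1, 3, 6, 5, 4, 6, 7], 937),
  ([8, 36, 25], [0, 2, 1, 0, 4, 5], [1, 0, 3, 2, 1, 3, 5, 6, 7], 36),
  ([1, 25, 44], [0, 2, 1, 0], [1, 0, 3, 2, 1, 3, 6, 5, 4, 6, 7], 140),
  ([12, 28, 43], [0, 2, 1, 0, 4, 5], [1, 0, 3, 2, 1, 3, 5, 6, 7], 715),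
  ([3, 43, 40], [0, 3, 2, 1, 0], [1, 0, 2, 1, 4, 3, 5, 6, 5], 136),
  ([5, 43, 38], [0, 2, 1, 0], [1, 0, 3, 2, 1, 3, 6, 5, 4, 6, 7], 1238),
  ([0, 26, 40], [0, 2, 1, 0], [1, 0, 3, 2, 1, 3, 6, 5, 4, 6, 7], 554),
  ([10, 46, 11], [0, 3, 2, 1, 0, 7], [1, 0, 2, 1, 4, 3, 5, 6, 5], 190),
  ([0, 46, 29], [0, 2, 1, 0], [1, 0, 3, 2, 1, 3, 6, 5, 4, 6, 7], 1133),
  ([11, 47, 10], [0, 3, 2, 1, 0, 7], [1, 0, 2, 1, 4, 3, 5, 6, 5], 510),
  ([18, 47, 13], [0, 3, 2, 1, 0, 7], [1, 0, 2, 1, 4, 3, 5, 6, 5], 665),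
  ([3, 41, 39], [0, 3, 2, 1, 0], [1, 0, 2, 1, 4, 3, 5, 6, 5], 39),
  ([2, 41, 40], [0, 2, 1, 0], [1, 0, 3, 2, 1, 3, 6, 5, 4, 6, 7], 808),
  ([0, 43, 40], [0, 2, 1, 0], [1, 0, 3, 2, 1, 3, 6, 5, 4, 6, 7], 571),
  ([5, 43, 34], [0, 2, 1, 0], [1, 0, 3, 2, 1, 3, 6, 5, 4, 6, 7], 1234),
  ([2, 46, 34], [0, 2, 1, 0], [1, 0, 3, 2, 1, 3, 6, 5, 4, 6, 7], 382),
  ([3, 33, 46], [0, 2, 1, 0, 4, 5], [1, 0, 3, 2, 1, 3, 5, 6, 7], 273),
  ([6, 23, 33], [0, 2, 1, 0], [1, 0, 3, 2, 1, 3, 6, 5, 4, 6, 7], 503),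
  ([9, 34, 47], [0, 2, 1, 0, 4, 5], [1, 0, 3, 2, 1, 3, 5, 6, 7], 911),
  ([8, 47, 35], [0, 3, 2, 1, 0], [1, 0, 2, 1, 4, 3, 5, 6, 5], 1091),
  ([7, 37, 47], [0, 2, 1, 0, 4, 5], [1, 0, 3, 2, 1, 3, 5, 6, 7], 853),
  ([8, 28, 43], [0, 2, 1, 0, 4, 5], [1, 0, 3, 2, 1, 3, 5, 6, 7], 748),
  ([1, 41, 28], [0, 2, 1, 0], [1, 0, 3, 2, 1, 3, 6, 5, 4, 6, 7], 185),
  ([13, 15, 37], [0, 3, 2, 1, 0], [1, 0, 2, 1, 4, 3, 5, 7, 6, 5], 133),
  ([7, 32, 37], [0, 3, 2, 1, 0], [1, 0, 2, 1, 4, 3, 5, 6, 5], 896),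
  ([19, 46, 9], [0, 3, 2, 1, 0, 7], [1, 0, 2, 1, 4, 3, 5, 6, 5], 474),
  ([27, 43, 9], [0, 3, 2, 1, 0, 7], [1, 0, 2, 1, 4, 3, 5, 6, 5], 477),
  ([3, 45, 35], [0, 3, 2, 1, 0], [1, 0, 2, 1, 4, 3, 5, 6, 5], 227),
  ([0, 45, 39], [0, 2, 1, 0], [1, 0, 3, 2, 1, 3, 6, 5, 4, 6, 7], 1047),
  ([9, 24, 44], [0, 3, 2, 1, 0], [1, 0, 2, 1, 4, 3, 5, 7, 6, 5], 1187),
  ([1, 47, 35], [0, 2, 1, 0], [1, 0, 3, 2, 1, 3, 6, 5, 4, 6, 7], 383),
  ([3, 47, 33], [0, 3, 2, 1, 0], [1, 0, 2, 1, 4, 3, 5, 6, 5], 321),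
  ([13, 33, 22], [0, 2, 1, 0, 4, 5], [1, 0, 3, 2, 1, 3, 5, 6, 7], 982),
  ([2, 47, 34], [0, 2, 1, 0], [1, 0, 3, 2, 1, 3, 6, 5, 4, 6, 7], 1282),
  ([10, 46, 34], [0, 3, 2, 1, 0], [1, 0, 2, 1, 4, 3, 5, 6, 5], 958),
  ([8, 36, 46], [0, 2, 1, 0, 4, 5], [1, 0, 3, 2, 1, 3, 5, 6, 7], 1044),
  ([20, 21, 38], [0, 3, 2, 1, 0], [1, 0, 2, 1, 4, 3, 5, 7, 6, 5], 806),
  ([2, 41, 38], [0, 2, 1, 0], [1, 0, 3, 2, 1, 3, 6, 5, 4, 6, 7], 521),
  ([18, 24, 39], [0, 3, 2, 1, 0], [1, 0, 2, 1, 4, 3, 5, 7, 6, 5], 759),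
  ([7, 39, 45], [0, 2, 1, 0, 4, 5], [1, 0, 3, 2, 1, 3, 5, 6, 7], 1005),
  ([14, 43, 7], [0, 3, 2, 1, 0, 7], [1, 0, 2, 1, 4, 3, 5, 6, 5], 368),
  ([8, 32, 44], [0, 3, 2, 1, 0], [1, 0, 2, 1, 4, 3, 5, 7, 6, 5], 1570),
  ([19, 23, 39], [0, 3, 2, 1, 0], [1, 0, 2, 1, 4, 3, 5, 7, 6, 5], 1140),
  ([6, 34, 43], [0, 3, 2, 1, 0, 6, 7], [1, 0, 2, 1, 4, 3, 6, 5, 7], 619),
  ([3, 43, 38], [0, 3, 2, 1, 0], [1, 0, 2, 1, 4, 3, 5, 6, 5], 134),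
  ([5, 17, 38], [0, 2, 1, 0], [1, 0, 3, 2, 1, 3, 6, 5, 4, 6, 7], 689),
  ([17, 27, 32], [0, 3, 2, 1, 0, 6, 7], [1, 0, 2, 1, 4, 3, 6, 5, 7], 1275),
  ([0, 36, 45], [0, 3, 2, 1, 0, 6, 7], [1, 0, 2, 1, 4, 3, 6, 5, 7], 381),
  ([20, 45, 8], [0, 3, 2, 1, 0, 7], [1, 0, 2, 1, 4, 3, 5, 6, 5], 427),
  ([5, 45, 36], [0, 2, 1, 0, 4, 6, 7], [1, 0, 3, 2, 1, 3, 6, 5, 7], 1476),
  ([1, 40, 43], [0, 3, 2, 1, 0, 6, 7], [1, 0, 2, 1, 4, 3, 6, 5, 7], 856),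
  ([5, 24, 33], [0, 2, 1, 0, 4, 6, 7], [1, 0, 3, 2, 1, 3, 6, 5, 7], 456),
  ([1, 39, 45], [0, 3, 2, 1, 0, 6, 7], [1, 0, 2, 1, 4, 3, 6, 5, 7], 1095),
  ([1, 40, 33], [0, 3, 2, 1, 0], [1, 0, 1, 4, 3, 2, 5, 4, 6, 7, 6], 92),
  ([0, 36, 37], [0, 3, 2, 1, 0], [1, 0, 1, 4, 3, 2, 5, 4, 6, 7, 6], 44),
  ([0, 44, 32], [0, 3, 2, 1, 0, 6, 7], [1, 0, 2, 1, 4, 3, 6, 5, 7], 284),
  ([5, 36, 37], [0, 3, 2, 1, 0], [1, 0, 1, 4, 3, 2, 5, 4, 6, 7, 6], 1285),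
  ([5, 15, 38], [0, 2, 1, 0, 4, 6, 7], [1, 0, 3, 2, 1, 3, 6, 5, 7], 687),
  ([7, 32, 22], [0, 3, 2, 1, 0, 6, 7], [1, 0, 1, 4, 3, 2, 5, 4, 6], 367),
  ([25, 15, 27], [0, 2, 1, 0], [1, 0, 3, 2, 1, 3, 5, 6, 5, 4, 6, 7], 795),
  ([26, 0, 34], [0, 2, 1, 0], [1, 0, 3, 2, 1, 3, 5, 6, 5, 4, 6, 7], 130),
  ([9, 24, 34], [0, 3, 2, 1, 0], [1, 0, 2, 1, 4, 3, 5, 6, 5], 888),
  ([10, 34, 23], [0, 2, 1, 0, 4, 5], [1, 0, 3, 2, 1, 3, 5, 6, 7], 935),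
  ([6, 15, 37], [0, 2, 1, 0, 4, 6, 7], [1, 0, 3, 2, 1, 3, 6, 5, 7], 85),
  ([2, 44, 21], [0, 3, 2, 1, 0, 6, 7], [1, 0, 2, 1, 4, 3, 6, 5, 7], 981),
  ([17, 45, 28], [0, 2, 1, 0, 6], [1, 0, 3, 2, 1, 3, 6, 5, 4, 6, 7], 1386),
  ([19, 13, 23], [0, 2, 1, 0, 4, 5], [1, 0, 3, 2, 1, 3, 5, 6, 8, 7], 639),
  ([12, 25, 15], [0, 3, 2, 1, 0, 6, 7], [1, 0, 1, 4, 3, 2, 5, 4, 6], 592),
  ([19, 13, 46], [0, 2, 1, 0, 4, 5], [1, 0, 3, 2, 1, 3, 5, 6, 8, 7], 666),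
  ([7, 44, 30], [0, 2, 1, 0, 4, 6, 5], [1, 0, 3, 2, 1, 3, 5, 6, 7], 1473),
  ([31, 33, 0], [0, 3, 2, 1, 0, 5, 6, 7], [1, 0, 2, 1, 4, 3, 6, 5, 7], 225),
  ([17, 28, 4], [0, 3, 2, 1, 0, 5, 6, 7], [1, 0, 2, 1, 4, 3, 6, 5, 7], 212),
  ([21, 39, 24], [0, 3, 2, 1, 0, 5, 6, 7], [1, 0, 2, 1, 4, 3, 6, 5, 7], 1198),
  ([21, 29, 25], [0, 3, 2, 1, 0, 5, 6, 7], [1, 0, 2, 1, 4, 3, 6, 5, 7], 1227),
  ([25, 34, 1], [0, 3, 2, 1, 0, 5, 6, 7], [1, 0, 2, 1, 4, 3, 6, 5, 7], 83),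
  ([33, 31, 3], [0, 2, 3, 2, 1, 0, 7], [1, 0, 2, 1, 3, 4, 3, 5, 6, 5], 186),
  ([26, 27, 41], [0, 3, 2, 1, 0, 6, 7], [1, 0, 2, 1, 4, 3, 6, 7, 6, 5], 1433),
  ([34, 26, 3], [0, 2, 3, 2, 1, 0, 7], [1, 0, 2, 1, 3, 4, 3, 5, 6, 5], 410),
  ([11, 26, 19], [0, 3, 2, 1, 0], [1, 0, 2, 1, 4, 3, 5, 6, 5], 259),
  ([8, 46, 2], [0, 3, 2, 1, 0, 5, 6, 7], [1, 0, 1, 4, 3, 2, 5, 4, 6], 409),
  ([17, 37, 3], [0, 3, 2, 1, 0, 7], [1, 0, 1, 4, 3, 2, 4, 5, 4, 6, 7, 6], 545),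
  ([26, 4, 18], [0, 2, 1, 0, 3], [1, 0, 2, 3, 2, 1, 3, 5, 6, 5, 4, 6, 7], 306),
  ([31, 18, 39], [0, 2, 3, 2, 1, 0], [1, 0, 1, 3, 4, 3, 2, 5, 4, 6, 7, 6], 1523),
  ([21, 29, 7], [0, 3, 2, 1, 0, 7], [1, 0, 1, 4, 3, 2, 4, 5, 4, 6, 7, 6], 501)]

/-- Some steps. -/
def steps11 : List Step := [
  ([34, 6, 9], [0, 2, 3, 2, 1, 0, 7], [1, 0, 2, 1, 3, 4, 3, 5, 7, 6, 5], 454),
  ([32, 7, 21], [0, 2, 3, 2, 1, 0, 6, 7], [1, 0, 2, 1, 3, 4, 3, 6, 7, 6, 5], 366),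
  ([2, 21, 29], [0, 2, 1, 0, 3, 2, 4, 5, 4, 6, 7, 6, 5, 8, 7, 6, 7, 6], [1, 0, 1, 3, 4], 123)]

/-- The tails known before a block of steps. -/
def known0 : ℕ := 0x4000000000000000000000000000000000040000000000020000000000080000000000002400000000000000000000000a000000000200000000000000000000000000000000000400000000000001008000000000000000000164000000000000000000000000000000002000000000000000000000000000040000000000001400000022000800000080100000000042000000000004080000000000000010000000001000000000100000004400000000002a00000000000400060000000004000000008000000000000100408000000c0005000000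

/-- The tails known before a block of steps. -/
def known1 : ℕ := 0x800000000000000000000000000000000000800000000000980000000000980000000000080000000000b1000000000094000000000021400000000001000000000008800000000000400000000034400000000094100000000085500000000003818000000008000000000029e520000000000000000000004a880000001bd1200000000000000000000000000000000400000000000007888000000000000000000164000000002806040800000000000000003056240a000000000000000000000402000000000014000000220008000004813448000000420800000000042c0a240000000000100000000010000000001000000045002c0014402a00000000000400060000400004000000008000000000000104408810000c0005000000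

/-- The tails known before a block of steps. -/
def known2 : ℕ := 0x800000000000000000000000a00000000000900000000000980000000000bc0000000000380000000000b50000000000940000000000bd4000000000130000000000bcd000000000104000000000b44000000000941000000000855000000000b3d180000000082000000000adf5a0000000000000000000804a880000009bd12400000000000000000095d6ad0000000400000000001457a9c00000000000000000017400000000ac56854800000220000000003456250a000000000000000000000402000000000014000000220008000084c1b54800000062080000008414ad0a24000000000010000000001000000000100000004550ad0014402a00000000000400064408400004000000008000040000040156418c10020c0005848017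

/-- The tails known before a block of steps. -/
def known3 : ℕ := 0x800000000000000000000000a00000000000900000000000980000000000bc0000000000380000000000b50000000000940000000000bf4000000000372000000000bcd000000000106800000000b66400000000941600000000855000000000b3f580000000286440000000adf5a0000000000000000000876ec80000009bd12400000000000000000095d6ad0000000400000000001577a9c00000136040000000017e00100000ac56856800002224006000003456250a000000000000000006660c2e8000000000140000002200186000a4c1bd6890002062086080008414ad0a34000000000010002604c85c99000000100000004550ad0014402a00400000000464ce6c1950000400000100800004000004015649cc91120c040dac8117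

/-- The tails known before a block of steps. -/
def known4 : ℕ := 0x800000000000000000000000a00000000000d00000000000980000000000bc00000000003e0000000000b50000000000940000000000bf4000000000372000000000bcd00000000054e800000000be6400000000de1e00000000855000000000b3f580000000286440000000adf5a0000000402810000000a76ec80000009bd12400000000a21000000095d6ad0000001626108000003577a9c00000336e48e000000f7e02900000ac56856800006e2e026400003cde251e0000000000020000166e0c7e8000000000140000002210186000a4c1bd68900022620ae5c8008414ad0a34004a0812b49a002604c87c99000802108682004550ad0014402a00408000000464ce6c1950000400000100800814150204015649cc91120c2e1dac8b17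

/-- The tails known before a block of steps. -/
def known5 : ℕ := 0x800000000000400000000000a00000000000d00000000000d80000000000bc00000000007e0000000000b50000000000978000000000bf40000000003f2000000000bcd000000000dee800000000be6400000000de1e00000000c5d900000000b3f580000000686440000000adf5a00000004aa910000000a76ec80000009bd12400000008ba1200000095d6ad000000562e128000003577a9c00000336e48e000008fff03900000ac56856800006e2e02e400003cde251e00001aae12970000166e0c7f800000000014000080a331196000a4c1bd68900022620ae5c8008415ad1b34004a0912b5ba002604c87c99000a021197878045d1ad1036c02a80429026600464ce6c19700004020237488018141502ac015649deb5d60c2e1dad8b17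

/-- The tails known before a block of steps. -/
def known6 : ℕ := 0x800000000000400000000000a00000000000d00000000000d80000000000bc00000000007e0000000000b50000000000d78000000000bf4000000000bf2000000000bed000000000dee800000000be6400000000de1e00000000c5f900000000b3f580000000686440000000edf5a0000000eba910000000a76fc80000009bdb3400000059bb3600000095d6ad00000056ae128000003577a9c00000336e48e00000cfff07900000ac56856800006e2e02e400003cde251e00001abe129f0000167e0c7f80008101bf544000c8a3b79b6000a4c1bd6ad00022631ae5c8008c15af5bb4004a0916b7ba002604c97e99000e02179f878045d1bd187fc02b897a947e600564ee6c5d70000487427f58809a361f37ec015669def5de0c2e1dbd8b17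

/-- The tails known before a block of steps. -/
def known7 : ℕ := 0x800000000000c00000000000e00000000000d00000000000f80000000000bc00000000007e0000000000ff0000000000f78000000000ffc000000000bf2000000000ffd000000000fee800000000fe7400000000fe5e00000000f5f900000000b7f58000000079edc0000000fdf5e0000000eba9d0000000e76fe80000009fdbb400000059bb36000000bdd7ad00000057ae5a800000b577a9c00000336e58e00000cfff07900000be56ad6800006e2e42ec0000bcde255e00001abe129f0000167e0c7f8000e101fff44000c8a3f79b6000a5d5fd6ad00062639ae5d8008cd7af5bb4004a0956b7ba002604c9ff99000e0217ff8780c5d1bd587fc02ba97a947fe00564fe6c7ff00005c7e3ffd8809a361f7fec0556e9deffde0e2e1dfdff3f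

/-- The tails known before a block of steps. -/
def known8 : ℕ := 0x800000000000c00000000000e00000000000f00000000000f80000000000fc0000000000fe0000000000ff0000000000ff8000000000ffc000000000ff6000000000ffd000000000fef800000000ff7c00000000fefe00000000fdf900000000f7f580000000f9edc0000000fdf5e0000000fba9f0000000f76ff8000000dfdbb4000000dbbb36000000bdd7ad0000007faf5a800000b777e9c00000776ed8e00000dfff37900000be56ad7800007e2e5afc0000bede275e00005ebe16bf00003e7e0dff8000e1e1fff44000c9bbf79b6000a5d5fd6af000636fdae5f8008cd7af5bf4004aab56b7be002666c9ffd9000e1e17ffb780c5d1ff5a7fc06ba9feb57fe02565ffec7ff00005effffff8889b379f7fec0556edffffde0e2e5dfdffbf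

/-- The tails known before a block of steps. -/
def known9 : ℕ := 0x800000000000c00000000000e00000000000f00000000000f80000000000fc0000000000fe0000000000ff0000000000ff8000000000ffc000000000ffe000000000fff000000000fff800000000fffc00000000fffe00000000fdf900000000fff580000000fbedc0000000fdffe0000000fbfff0000000f7fff8000000ffdbb4000000dbbb76000000bdd7af0000007faf5a800000bf77edc00000ff6fdae00000dfff37900000bffead7800007ffe5afc0000bedfa7fe0000febf56bf00007e7ecdff8000e1e5fffc4000c9fbff9f6000b5f5fd7af00073effaf5f8008cd7bf5ffc005aaf7ebffe00377ef9ffff000ebe37ffbf80edd1ff7b7fc06ba9fef5ffe02765ffecfff0009dfffffff88c9b779ffffc8556edfffffe2e2edfffffff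

/-- The tails known before a block of steps. -/
def known10 : ℕ := 0x800000000000c00000000000e00000000000f00000000000f80000000000fc0000000000fe0000000000ff0000000000ff8000000000ffc000000000ffe000000000fff000000000fff800000000fffc00000000fffe00000000fff900000000fff780000000ffedc0000000fdffe0000000fbfff0000000fffff8000000ffdbf4000000ffbbf6000000bff7ef000000ffefde800000ff77fdc00000ff6ffbe00000dfff37900000bfffed7800007ffedafc0000fedfaffe0000febf57ff0000ff7eefff8000f7fdfffd4000d9fbffff6000f7f7fffef000f7effbfdf800bddfbf5ffc005bbf7ebffe00f77ff9ffff001efe3fffff80fdf5fffbffc0ebedfff7ffe0f775ffeffff0a1fffffffff8ce9bf7fffffcaf57fffffffe6f6fffffffff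

/-- The tails known before a block of steps. -/
def known11 : ℕ := 0x800000000000c00000000000e00000000000f00000000000f80000000000fc0000000000fe0000000000ff0000000000ff8000000000ffc000000000ffe000000000fff000000000fff800000000fffc00000000fffe00000000ffff00000000ffff80000000ffffc0000000ffffe0000000fffff0000000fffff8000000fffffc000000fffffe000000ffffff000000fffffe800000fffffdc00000fffffbe00000fffff7f00000ffffeff80000ffffdffc0000ffffbffe0000ffff7fff0000fffeffff8000fffdffffc000fffbffffe000fff7fffff000ffeffffff800ffdffffffc00ffbfffbffe00ff7fffffff00feffbfffff80fdffffffffc0fbffffffffe0f7fffffffff0effffffffff8dffff7fffffcbffffffffffe7fffffffffff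

/-- The tails known before a block of steps. -/
def known12 : ℕ := 0x800000000000c00000000000e00000000000f00000000000f80000000000fc0000000000fe0000000000ff0000000000ff8000000000ffc000000000ffe000000000fff000000000fff800000000fffc00000000fffe00000000ffff00000000ffff80000000ffffc0000000ffffe0000000fffff0000000fffff8000000fffffc000000fffffe000000ffffff000000fffffe800000fffffdc00000fffffbe00000fffff7f00000ffffeff80000ffffdffc0000ffffbffe0000ffff7fff0000fffeffff8000fffdffffc000fffbffffe000fff7fffff000ffeffffff800ffdffffffc00ffbffffffe00ff7fffffff00feffffffff80fdffffffffc0fbffffffffe0f7fffffffff0effffffffff8dffffffffffcbffffffffffe7fffffffffff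

/-- A condition giving the order two. -/
def lastStep : List ℕ × List ℕ × List ℕ := ([32, 33, 33], [0, 3, 2, 1, 0, 2, 1, 1], [1])

end Cfsg.Agent.Lie.Chev.F4Mult
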