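import Mathlib

/-!
Central tails of a presentation by involutions and commutator formulas: two ways of rewriting one word give a linear
condition on the tails, and a chain of such conditions determines them.
-/

set_option autoImplicit false

namespace Cfsg.Agent.Lie.Chev.F4Mult

/-- The product of the letters of a word. -/
def evw {Γ : Type*} [Monoid Γ] (y : ℕ → Γ) (w : List ℕ) : Γ := (w.map y).prod

theorem evw_append {Γ : Type*} [Monoid Γ] (y : ℕ → Γ) (u v : List ℕ) : evw y (u ++ v) = evw y u * evw y v := by
  simp [evw]

theorem evw_cons {Γ : Type*} [Monoid Γ] (y : ℕ → Γ) (a : ℕ) (v : List ℕ) : evw y (a :: v) = y a * evw y v := by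
  simp [evw]

/-- The commutator formulas, by two indices. -/
abbrev CommTab : Type := List (List (List ℕ))

/-- The word of a pair. -/
def wordOf (W : CommTab) (a b : ℕ) : List ℕ := (W.getD a []).getD b []

/-- The tail of a pair. -/
def var (a b : ℕ) : ℕ := 48 * a + b

/-- A tail expression. -/
abbrev TailVec : Type := List (ℕ × Bool)

/-- Exchange or cancel the two letters at a position, recording the tails. -/
def step (W : CommTab) (s : List ℕ × TailVec) (i : ℕ) : Option (List ℕ × TailVec) :=
  match s.1.drop i with
  | a :: b :: rest =>
    bif !(Nat.blt a 48 && Nat.blt b 48) then none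
    else bif Nat.beq a b then some (s.1.take i ++ rest, (var a a, true) :: s.2)
    else bif Nat.beq (a + b) 47 then none
    else bif Nat.blt a b then some (s.1.take i ++ b :: a :: (wordOf W a b ++ rest), (var a b, true) :: s.2)
    else bif (wordOf W b a).all fun k => Nat.blt k 48 then
      some (s.1.take i ++ b :: a :: ((wordOf W b a).reverse ++ rest),
        (wordOf W b a).map (fun k => (var k k, false)) ++ (var b a, false) :: s.2)
    else none
  | _ => none

/-- A list of moves. -/
def runMoves (W : CommTab) : List ℕ → List ℕ × TailVec → Option (List ℕ × TailVec)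
  | [], s => some s
  | i :: l, s => match step W s i with
    | some s' => runMoves W l s'
    | none => none

/-- Add a signed tail, cancelling an opposite one. -/
def insTail (x : ℕ × Bool) (p : TailVec) : TailVec :=
  bif p.contains (x.1, !x.2) then p.erase (x.1, !x.2) else x :: p

/-- A tail expression with opposite tails cancelled. -/
def cancelTails : TailVec → TailVec
  | [] => []
  | x :: p => insTail x (cancelTails p)

/-- The condition from two ways of rewriting a word. -/
def cond (W : CommTab) (w : List ℕ) (s₁ s₂ : List ℕ) : Option TailVec :=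
  match runMoves W s₁ (w, []), runMoves W s₂ (w, []) with
  | some (u, p), some (u', p') => bif u == u' then some (cancelTails (p ++ p'.map fun x => (x.1, !x.2))) else none
  | _, _ => none

/-- The group data: involutions up to tails, and the formulas. -/
structure Rels (W : CommTab) (Γ : Type*) [Group Γ] (A : Type*) [AddCommGroup A] where
  /-- the lifts -/
  y : ℕ → Γ
  /-- the tails as elements -/
  ι : A → Γ
  /-- the tails -/
  t : ℕ → A
  ι_add : ∀ p q, ι (p + q) = ι p * ι q
  ι_inj : Function.Injective ι
  ι_comm : ∀ p g, Commute (ι p) g
  sq : ∀ a < 48, y a * y a = ι (t (var a a))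
  cm : ∀ a b, a < b → b < 48 → a + b ≠ 47 → y a * y b = y b * y a * evw y (wordOf W a b) * ι (t (var a b))

namespace Rels

variable {W : CommTab} {Γ : Type*} [Group Γ] {A : Type*} [AddCommGroup A] (R : Rels W Γ A)

/-- The value of a signed tail. -/
def val1 (x : ℕ × Bool) : A := bif x.2 then R.t x.1 else -R.t x.1

/-- The value of a tail expression. -/
def val (p : TailVec) : A := (p.map R.val1).sum

theorem ι_zero : R.ι 0 = 1 := by
  have := R.ι_add 0 0
  rw [add_zero] at this
  exact mul_eq_left.1 this.symm

theorem ι_neg (p : A) : R.ι (-p) = (R.ι p)⁻¹ := by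
  refine eq_inv_of_mul_eq_one_left ?_
  rw [← R.ι_add, neg_add_cancel, R.ι_zero]

theorem evw_inv : ∀ w : List ℕ, (∀ k ∈ w, k < 48) →
    (evw R.y w)⁻¹ = evw R.y w.reverse * R.ι (R.val (w.map fun k => (var k k, false)))
  | [], _ => by simp [evw, val, R.ι_zero]
  | a :: w, h => by
    rw [evw_cons, mul_inv_rev, evw_inv w fun k hk => h k (List.mem_cons_of_mem _ hk), List.reverse_cons, evw_append]
    have e : (R.y a)⁻¹ = R.y a * R.ι (-R.t (var a a)) := by
      rw [R.ι_neg, ← R.sq a (h a (by simp)), mul_inv_rev, mul_inv_cancel_left]
    rw [e, List.map_cons]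
    simp only [val, evw, List.map_cons, List.map_nil, List.sum_cons, R.ι_add, List.prod_cons, List.prod_nil, mul_one,
      val1, cond_false]
    simp only [mul_assoc]
    congr 1
    rw [← mul_assoc, (R.ι_comm _ _).eq, mul_assoc, (R.ι_comm _ _).eq]

/-- The element of a state. -/
def el (s : List ℕ × TailVec) : Γ := evw R.y s.1 * R.ι (R.val s.2)

theorem el_step {s s' : List ℕ × TailVec} {i : ℕ} (h : step W s i = some s') : R.el s' = R.el s := by
  unfold step at h
  split at h
  case h_2 => simp at h
  case h_1 a b rest e =>
    have hw : evw R.y s.1 = evw R.y (s.1.take i) * (R.y a * R.y b) * evw R.y rest := by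
      conv_lhs => rw [← List.take_append_drop i s.1, evw_append, e, evw_cons, evw_cons]
      simp only [mul_assoc]
    cases hlt : (Nat.blt a 48 && Nat.blt b 48)
    · simp [hlt] at h
    rw [hlt] at h
    simp only [Bool.and_eq_true, Nat.blt_eq] at hlt
    cases hab : Nat.beq a b
    case true =>
      simp only [Bool.not_true, cond_false, hab, cond_true, Option.some.injEq] at h
      subst h
      obtain rfl := Nat.eq_of_beq_eq_true hab
      simp only [el, evw_append, val, List.map_cons, List.sum_cons, R.ι_add, hw, val1, cond_true, R.sq a hlt.1,
        mul_assoc]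
      congr 1
      rw [← mul_assoc, ← (R.ι_comm _ (evw R.y rest)).eq, mul_assoc]
    case false =>
    have hne := Nat.ne_of_beq_eq_false hab
    cases hop : Nat.beq (a + b) 47
    case true => simp [hab, hop] at h
    case false =>
    have hop' := Nat.ne_of_beq_eq_false hop
    cases hl : Nat.blt a b
    case true =>
      simp only [Bool.not_true, cond_false, hab, hop, hl, cond_true, Option.some.injEq] at h
      subst h
      simp only [Nat.blt_eq] at hl
      simp only [el, evw_append, evw_cons, val, List.map_cons, List.sum_cons, R.ι_add, hw, val1, cond_true,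
        R.cm a b hl hlt.2 hop', mul_assoc]
      congr 4
      rw [← mul_assoc, ← (R.ι_comm _ (evw R.y rest)).eq, mul_assoc]
    case false =>
      simp only [Bool.not_true, cond_false, hab, hop, hl] at h
      cases hall : (wordOf W b a).all fun k => Nat.blt k 48
      · simp [hall] at h
      simp only [hall, cond_true, Option.some.injEq] at h
      subst h
      have hl' : b < a := by
        simp only [← Bool.not_eq_true, Nat.blt_eq] at hl
        omega
      simp only [List.all_eq_true, Nat.blt_eq] at hall
      have hc := R.cm b a hl' hlt.1 (by omega)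
      have e2 : R.y a * R.y b = R.y b * R.y a * ((evw R.y (wordOf W b a))⁻¹ * R.ι (-R.t (var b a))) := by
        rw [R.ι_neg, hc, ← (R.ι_comm (R.t (var b a)) _).inv_inv.eq]
        group
      simp only [el, evw_append, evw_cons, val, List.map_cons, List.map_append, List.sum_append, List.sum_cons,
        R.ι_add, hw, val1, cond_false, e2, R.evw_inv _ hall, mul_assoc]
      congr 4
      rw [← mul_assoc _ _ (evw R.y rest * _), ← (R.ι_comm _ (evw R.y rest)).left_comm,
        ← (R.ι_comm _ (evw R.y rest)).left_comm]
      simp only [mul_assoc]

theorem el_runMoves : ∀ (l : List ℕ) {s s' : List ℕ × TailVec}, runMoves W l s = some s' → R.el s' = R.el s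
  | [], s, s', h => by simp only [runMoves, Option.some.injEq] at h; rw [h]
  | i :: l, s, s', h => by
    simp only [runMoves] at h
    split at h
    case h_1 s1 e => exact (el_runMoves l h).trans (R.el_step e)
    case h_2 => simp at h

theorem val_append (p q : TailVec) : R.val (p ++ q) = R.val p + R.val q := by simp [val]

theorem val_flip : ∀ p : TailVec, R.val (p.map fun x => (x.1, !x.2)) = -R.val p
  | [] => by simp [val]
  | (v, s) :: p => by
    have := val_flip p
    simp only [val] at this ⊢
    rw [List.map_cons, List.map_cons, List.sum_cons, List.map_cons, List.sum_cons, this]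
    cases s <;> simp [val1] <;> abel

theorem val_insTail (x : ℕ × Bool) (p : TailVec) : R.val (insTail x p) = R.val1 x + R.val p := by
  unfold insTail
  cases h : p.contains (x.1, !x.2)
  · simp [val]
  · have hm := List.contains_iff_mem.1 h
    have hp := ((List.perm_cons_erase hm).map R.val1).sum_eq
    have hx : R.val1 x + R.val1 (x.1, !x.2) = 0 := by
      obtain ⟨v, s⟩ := x
      cases s <;> simp [val1]
    simp only [cond_true, val]
    rw [hp, List.map_cons, List.sum_cons, ← add_assoc, hx, zero_add]

theorem val_cancelTails : ∀ p : TailVec, R.val (cancelTails p) = R.val p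
  | [] => rfl
  | x :: p => by rw [cancelTails, val_insTail, val_cancelTails p]; simp [val]

theorem cond_zero {w s₁ s₂ : List ℕ} {p : TailVec} (h : cond W w s₁ s₂ = some p) : R.val p = 0 := by
  unfold cond at h
  split at h
  case h_2 => simp at h
  case h_1 u q u' q' e1 e2 =>
    cases hu : u == u'
    · simp [hu] at h
    simp only [hu, cond_true, Option.some.injEq] at h
    subst h
    obtain rfl := beq_iff_eq.1 hu
    have := (R.el_runMoves s₁ e1).trans (R.el_runMoves s₂ e2).symm
    simp only [el, mul_right_inj] at this
    rw [val_cancelTails, val_append, val_flip, R.ι_inj this, add_neg_cancel]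

/-- The coefficient of a tail. -/
def coef (v : ℕ) : TailVec → ℤ
  | [] => 0
  | (u, s) :: p => (bif Nat.beq u v then (bif s then 1 else -1) else 0) + coef v p

/-- The value of the others under an assignment of multiples. -/
def others (K : ℕ → ℤ) (v : ℕ) : TailVec → ℤ
  | [] => 0
  | (u, s) :: p => (bif Nat.beq u v then 0 else (bif s then K u else -K u)) + others K v p

/-- The tails other than one are known. -/
def othersKnown (known : ℕ) (v : ℕ) (p : TailVec) : Bool :=
  p.all fun x => Nat.beq x.1 v || known.testBit x.1

theorem val_others {z : A} {K : ℕ → ℤ} {known v : ℕ} (hk : ∀ u, known.testBit u = true → R.t u = K u • z) :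
    ∀ p : TailVec, othersKnown known v p = true → R.val p = coef v p • R.t v + others K v p • z
  | [], _ => by simp [val, coef, others]
  | (u, s) :: p, h => by
    simp only [othersKnown, List.all_cons, Bool.and_eq_true, Bool.or_eq_true] at h
    have ih := val_others hk p (by simpa [othersKnown] using h.2)
    rw [show R.val ((u, s) :: p) = R.val1 (u, s) + R.val p by simp [val], ih, coef, others]
    cases hu : Nat.beq u v
    · have hu' : known.testBit u = true := h.1.resolve_left (by simp [hu])
      cases s <;> simp [val1, hk u hu', add_smul, neg_smul] <;> abel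
    · obtain rfl := Nat.eq_of_beq_eq_true hu
      cases s <;> simp [val1, add_smul] <;> abel

end Rels

/-- A step: a word, two rewritings of it, and the tail it determines. -/
abbrev Step : Type := List ℕ × List ℕ × List ℕ × ℕ

/-- A step is right. -/
def chkStep (W : CommTab) (K : ℕ → ℤ) (known : ℕ) : Step → Bool
  | (w, s₁, s₂, v) => match cond W w s₁ s₂ with
    | some p =>
      let c := Rels.coef v p
      Rels.othersKnown known v p && (c * c == 1) && (c * K v + Rels.others K v p == 0)
    | none => false

/-- The steps are right, one after another. -/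
def chkSteps (W : CommTab) (K : ℕ → ℤ) : ℕ → List Step → Bool
  | _, [] => true
  | known, s :: l => chkStep W K known s && chkSteps W K (known ||| 2 ^ s.2.2.2) l

/-- The tails known after some steps. -/
def knownAfter : ℕ → List Step → ℕ
  | known, [] => known
  | known, s :: l => knownAfter (known ||| 2 ^ s.2.2.2) l

theorem Rels.spec {W : CommTab} {Γ : Type*} [Group Γ] {A : Type*} [AddCommGroup A] (R : Rels W Γ A) {z : A}
    {K : ℕ → ℤ} : ∀ (l : List Step) (known : ℕ), chkSteps W K known l = true →
    (∀ u, known.testBit u = true → R.t u = K u • z) →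
    ∀ u, (knownAfter known l).testBit u = true → R.t u = K u • z
  | [], known, _, hk => hk
  | (w, s₁, s₂, v) :: l, known, h, hk => by
    simp only [chkSteps, Bool.and_eq_true] at h
    obtain ⟨h1, h2⟩ := h
    refine R.spec l _ h2 fun u hu => ?_
    rw [Nat.testBit_lor, Bool.or_eq_true] at hu
    rcases hu with hu | hu
    · exact hk u hu
    rw [Nat.testBit_two_pow] at hu
    obtain rfl : v = u := by simpa using hu
    simp only [chkStep] at h1
    split at h1
    case h_2 => simp at h1
    case h_1 p hp =>
      simp only [Bool.and_eq_true, beq_iff_eq] at h1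
      obtain ⟨⟨hkn, hc⟩, he⟩ := h1
      have h0 := R.cond_zero hp
      rw [R.val_others hk p hkn] at h0
      have h3 := congrArg (fun x => Rels.coef v p • x) h0
      simp only [smul_add, ← mul_smul, smul_zero, hc, one_smul] at h3
      rw [eq_neg_of_add_eq_zero_left h3, ← neg_smul]
      congr 1
      have e : Rels.others K v p = -(Rels.coef v p * K v) := by omega
      rw [e, mul_neg, neg_neg, ← mul_assoc, hc, one_mul]

end Cfsg.Agent.Lie.Chev.F4Mult
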